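import Groth.Agent.Lib.TFExt45.Count

/-!
# Rank one modules over the singularities `A_{2δ}`
-/

set_option autoImplicit false

noncomputable section

namespace Groth.Agent.TFExt45.Aeven

open PowerSeries Groth.Agent.TFExt45.Mono Groth.Agent.TFExt45.Count

universe u

variable {k : Type u} [Field k]

/-- The semigroup of `A_{2δ}`. -/
def sg (δ : ℕ) : Set ℕ := {m | m % 2 = 0 ∨ 2 * δ + 1 ≤ m}

/-- The exponents of the rank one module with index `i`. -/
def ex (δ i : ℕ) : Set ℕ := {m | m % 2 = 0 ∨ 2 * δ + 1 - 2 * i ≤ m}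

theorem mem_closure_iff (δ m : ℕ) :
    m ∈ AddSubmonoid.closure ({2, 2 * δ + 1} : Set ℕ) ↔ m ∈ sg δ := by
  rw [AddSubmonoid.mem_closure_pair]
  simp only [sg, Set.mem_ofPred_eq, smul_eq_mul]
  constructor
  · rintro ⟨a, b, rfl⟩
    rcases Nat.eq_zero_or_pos b with rfl | hb
    · left; simp
    · rcases Nat.mod_two_eq_zero_or_one (a * 2 + b * (2 * δ + 1)) with h | h
      · exact Or.inl h
      · right
        have := Nat.le_mul_of_pos_left (2 * δ + 1) hb
        omega
  · intro h
    by_cases h0 : m % 2 = 0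
    · exact ⟨m / 2, 0, by omega⟩
    · exact ⟨(m - (2 * δ + 1)) / 2, 1, by omega⟩

theorem mem_DS (δ i m : ℕ) (hi : i ≤ δ) :
    m ∈ DS (ex δ i) (2 * δ) ↔ (m % 2 = 0 ∧ m < 2 * δ) ∨
      (m % 2 = 1 ∧ 2 * δ + 1 - 2 * i ≤ m ∧ m < 2 * δ + 1 - 2 * i + 2 * δ) := by
  simp only [DS, ex, Set.mem_ofPred_eq]
  omega

theorem sol_even (δ i j : ℕ) (hi : i ≤ δ) (hj : j ≤ δ) :
    Module.finrank k ↥(SolN k (sg δ) (ex δ i) (ex δ j) (2 * δ)) = 2 * δ + 2 * min i j := by
  classical
  set o := 2 * δ + 1 - 2 * i with ho
  set o' := 2 * δ + 1 - 2 * j with ho'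
  let L0 : ℕ → ℕ → Option (ℕ × ℕ) := fun b s =>
    if s % 2 = 1 ∧ s < o' then none
    else if b = 0 then
      (if s % 2 = 1 then some (b, s) else if i ≤ j ∨ 2 * δ ≤ s + 2 * j then some (b, s)
        else if o' ≤ s + o then some (o, s + o) else none)
    else
      (if s % 2 = 0 then (if 2 * δ ≤ s + 2 * min i j then some (b, s) else none)
        else if j < i ∨ o' + 2 * δ ≤ s + 2 * i then some (b, s) else if o ≤ s then some (0, s - o) else none)
  let L : ℕ × ℕ → Option (ℕ × ℕ) := fun x =>
    if x.2 < x.1 - (if x.1 % 2 = 0 then 0 else o) then none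
    else L0 (if x.1 % 2 = 0 then 0 else o) (x.2 - (x.1 - (if x.1 % 2 = 0 then 0 else o)))
  let c := if i ≤ j then δ else j
  let c' := if i ≤ j then i else δ
  let F : Finset (ℕ × ℕ) :=
    (((Finset.range δ).image fun t => ((0 : ℕ), o' + 2 * t)) ∪
      ((Finset.range (min i j)).image fun t => (o, 2 * δ - 2 * min i j + 2 * t))) ∪
    (((Finset.range c).image fun t => ((0 : ℕ), 2 * δ - 2 * c + 2 * t)) ∪
      ((Finset.range c').image fun t => (o, o' + 2 * δ - 2 * c' + 2 * t)))
  have hF : ∀ a b : ℕ, (a, b) ∈ F ↔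
      (a = 0 ∧ b % 2 = 1 ∧ o' ≤ b ∧ b < o' + 2 * δ) ∨
      (a = o ∧ b % 2 = 0 ∧ 2 * δ - 2 * min i j ≤ b ∧ b < 2 * δ) ∨
      (a = 0 ∧ b % 2 = 0 ∧ 2 * δ - 2 * c ≤ b ∧ b < 2 * δ) ∨
      (a = o ∧ b % 2 = 1 ∧ o' + 2 * δ - 2 * c' ≤ b ∧ b < o' + 2 * δ) := by
    intro a b
    simp only [F, Finset.mem_union, Finset.mem_image, Finset.mem_range, Prod.mk.injEq]
    have hc : c ≤ δ := by simp only [c]; split <;> omega
    have hc' : c' ≤ δ := by simp only [c']; split <;> omega
    constructor
    · rintro ((⟨t, ht, h⟩ | ⟨t, ht, h⟩) | (⟨t, ht, h⟩ | ⟨t, ht, h⟩)) <;> omega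
    · rintro (h | h | h | h)
      · exact Or.inl (Or.inl ⟨(b - o') / 2, by omega, by omega⟩)
      · exact Or.inl (Or.inr ⟨(b - (2 * δ - 2 * min i j)) / 2, by omega, by omega⟩)
      · exact Or.inr (Or.inl ⟨(b - (2 * δ - 2 * c)) / 2, by omega, by omega⟩)
      · exact Or.inr (Or.inr ⟨(b - (o' + 2 * δ - 2 * c')) / 2, by omega, by omega⟩)
  rw [finrank_sol (sg δ) (ex δ i) (ex δ j) (2 * δ) F L]
  · have hc : c ≤ δ := by simp only [c]; split <;> omega
    have hc' : c' ≤ δ := by simp only [c']; split <;> omega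
    have hinj : ∀ u v : ℕ, Function.Injective fun t : ℕ => (u, v + 2 * t) := fun u v t t' h => by
      simp at h; omega
    rw [Finset.card_union_of_disjoint, Finset.card_union_of_disjoint, Finset.card_union_of_disjoint,
      Finset.card_image_of_injective _ (hinj _ _), Finset.card_image_of_injective _ (hinj _ _),
      Finset.card_image_of_injective _ (hinj _ _), Finset.card_image_of_injective _ (hinj _ _)]
    · simp only [Finset.card_range, c, c']
      split <;> omega
    all_goals
      rw [Finset.disjoint_left]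
      simp only [Finset.mem_union, Finset.mem_image, Finset.mem_range, Prod.forall, Prod.mk.injEq]
    · rintro a b ⟨t, ht, h⟩ ⟨t', ht', h'⟩; omega
    · rintro a b ⟨t, ht, h⟩ ⟨t', ht', h'⟩; omega
    · rintro a b (⟨t, ht, h⟩ | ⟨t, ht, h⟩) (⟨t', ht', h'⟩ | ⟨t', ht', h'⟩) <;> omega
  · rintro ⟨a, b⟩ hf
    have := (hF a b).1 hf
    refine ⟨(mem_DS δ i a hi).2 (by omega), (mem_DS δ j b hj).2 ?_, ?_⟩
    · simp only [c, c'] at this
      split_ifs at this <;> omega
    · simp only [c, c'] at this
      simp only [L, L0]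
      split_ifs at this ⊢ <;> first | omega | (simp only [Option.some.injEq, Prod.mk.injEq]; omega)
  · rintro ⟨p, r⟩ ⟨a, b⟩ hp hr hx
    rw [mem_DS δ i p hi] at hp
    rw [mem_DS δ j r hj] at hr
    rw [hF]
    simp only [c, c']
    simp only [L, L0] at hx
    split_ifs at hx ⊢ <;> simp only [Option.some.injEq, Prod.mk.injEq] at hx <;> omega
  · intro U hU p hp r hr
    have eq : ∀ γ ∈ sg δ, ∀ a, a ∈ DS (ex δ i) (2 * δ) → ∀ b, b ∈ DS (ex δ j) (2 * δ) →
        U (a + γ) b = if γ ≤ b then U a (b - γ) else 0 := hU.2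
    have zero : ∀ a b, ¬ (a ∈ DS (ex δ i) (2 * δ) ∧ b ∈ DS (ex δ j) (2 * δ)) → U a b = 0 := hU.1
    rw [mem_DS δ i p hi] at hp
    rw [mem_DS δ j r hj] at hr
    have hred : ∀ b, (b = 0 ∧ p % 2 = 0) ∨ (b = o ∧ p % 2 = 1) →
        U p r = if p - b ≤ r then U b (r - (p - b)) else 0 := by
      intro b hb
      have := eq (p - b) (by simp only [sg, Set.mem_ofPred_eq]; omega) b ((mem_DS δ i b hi).2 (by omega))
        r ((mem_DS δ j r hj).2 hr)
      rwa [show b + (p - b) = p by omega] at this
    have keyA : ∀ v, v ∈ DS (ex δ j) (2 * δ) →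
        (if 2 * i ≤ v then U o (v - 2 * i) else 0) = if 2 * δ + 1 ≤ v then U 0 (v - (2 * δ + 1)) else 0 := by
      intro v hv
      have h1 := eq (2 * i) (by simp [sg]) o ((mem_DS δ i o hi).2 (by omega)) v hv
      have h2 := eq (2 * δ + 1) (by simp [sg]) 0 ((mem_DS δ i 0 hi).2 (by omega)) v hv
      rw [show o + 2 * i = 0 + (2 * δ + 1) by omega] at h1
      rw [← h1, h2]
    have keyB : ∀ v, v ∈ DS (ex δ j) (2 * δ) → 2 * δ + 1 ≤ v → U o (v - (2 * δ + 1)) = 0 := by
      intro v hv hle
      have h1 := eq (2 * δ + 1) (by simp [sg]) o ((mem_DS δ i o hi).2 (by omega)) v hv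
      rw [if_pos hle, zero _ _ (fun h => by rw [mem_DS δ i _ hi] at h; omega)] at h1
      exact h1.symm
    have base : ∀ b s, (b = 0 ∨ b = o) → (s % 2 = 0 ∧ s < 2 * δ ∨ s % 2 = 1 ∧ s < o' + 2 * δ) →
        U b s = (L0 b s).elim 0 fun f => U f.1 f.2 := by
      intro b s hb hs
      simp only [L0]
      split
      next h => exact zero _ _ fun h' => by rw [mem_DS δ j _ hj] at h'; omega
      next h =>
        split
        next hb0 =>
          subst hb0
          split
          · rfl
          · split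
            · rfl
            next h3 =>
              have hv : s + (2 * δ + 1) ∈ DS (ex δ j) (2 * δ) := (mem_DS δ j _ hj).2 (by omega)
              have h5 := keyA _ hv
              rw [if_pos (by omega), if_pos (by omega), Nat.add_sub_cancel,
                show s + (2 * δ + 1) - 2 * i = s + o by omega] at h5
              split
              · exact h5.symm
              · rw [← h5]
                exact zero _ _ fun h' => by rw [mem_DS δ j _ hj] at h'; omega
        next hb0 =>
          obtain rfl : b = o := by omega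
          split
          · split
            · rfl
            next hs2 h3 =>
              show U o s = 0
              by_cases h4 : s + 2 * j < 2 * δ
              · have h5 := keyB (s + (2 * δ + 1)) ((mem_DS δ j _ hj).2 (by omega)) (by omega)
                rwa [Nat.add_sub_cancel] at h5
              · have h5 := keyA (s + 2 * i) ((mem_DS δ j _ hj).2 (by omega))
                rwa [if_pos (by omega), if_neg (by omega), Nat.add_sub_cancel] at h5
          · split
            · rfl
            next hs2 h3 =>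
              have h5 := keyA (s + 2 * i) ((mem_DS δ j _ hj).2 (by omega))
              rw [if_pos (by omega), Nat.add_sub_cancel] at h5
              rw [h5]
              split
              next h6 =>
                rw [if_pos (by omega)]
                show U 0 (s + 2 * i - (2 * δ + 1)) = U 0 (s - o)
                congr 1
                omega
              next h6 =>
                rw [if_neg (by omega)]
                rfl
    by_cases hpe : p % 2 = 0
    · rw [hred 0 (Or.inl ⟨rfl, hpe⟩)]
      simp only [L, if_pos hpe, Nat.sub_zero]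
      by_cases hle : p ≤ r
      · rw [if_pos hle, if_neg (by omega)]
        exact base 0 _ (Or.inl rfl) (by omega)
      · rw [if_neg hle, if_pos (by omega)]
        rfl
    · rw [hred o (Or.inr ⟨rfl, by omega⟩)]
      simp only [L, if_neg hpe]
      by_cases hle : p - o ≤ r
      · rw [if_pos hle, if_neg (by omega)]
        exact base o _ (Or.inr rfl) (by omega)
      · rw [if_neg hle, if_pos (by omega)]
        rfl
  · intro γ hγ p hp r hr
    simp only [mem_DS δ i _ hi] at hp ⊢
    simp only [mem_DS δ j _ hj] at hr ⊢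
    simp only [sg, Set.mem_ofPred_eq] at hγ
    have evalE : ∀ x y : ℕ, x % 2 = 0 → L (x, y) = if y < x then none else L0 0 (y - x) := by
      intro x y hx
      simp only [L, if_pos hx, Nat.sub_zero]
    have evalO : ∀ x y : ℕ, x % 2 = 1 → L (x, y) = if y < x - o then none else L0 o (y - (x - o)) := by
      intro x y hx
      simp only [L, if_neg (show ¬ x % 2 = 0 by omega)]
    have low : ∀ b s, s % 2 = 1 → s < o' → L0 b s = none := fun b s h h' => if_pos ⟨h, h'⟩
    clear_value L
    rcases Nat.mod_two_eq_zero_or_one γ with hg | hg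
    · -- an even step keeps the base
      rcases Nat.mod_two_eq_zero_or_one p with hpp | hpp
      · rw [evalE _ _ (by omega : (p + γ) % 2 = 0), evalE _ _ hpp]
        refine ⟨fun h1 h2 h3 => ?_, fun h1 h2 => ?_, fun h1 h2 h3 => ?_⟩
        · by_cases h : r - γ < p
          · rw [if_pos h, if_pos (by omega)]
          · rw [if_neg h, if_neg (by omega), show r - γ - p = r - (p + γ) by omega]
        · by_cases h : r < p + γ
          · rw [if_pos h]
          · rw [if_neg h]
            exact low 0 _ (by omega) (by omega)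
        · by_cases h : r - γ < p
          · rw [if_pos h]
          · rw [if_neg h]
            exact low 0 _ (by omega) (by omega)
      · rw [evalO _ _ (by omega : (p + γ) % 2 = 1), evalO _ _ hpp]
        refine ⟨fun h1 h2 h3 => ?_, fun h1 h2 => ?_, fun h1 h2 h3 => ?_⟩
        · by_cases h : r - γ < p - o
          · rw [if_pos h, if_pos (by omega)]
          · rw [if_neg h, if_neg (by omega), show r - γ - (p - o) = r - (p + γ - o) by omega]
        · by_cases h : r < p + γ - o
          · rw [if_pos h]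
          · rw [if_neg h]
            exact low o _ (by omega) (by omega)
        · by_cases h : r - γ < p - o
          · rw [if_pos h]
          · rw [if_neg h]
            exact low o _ (by omega) (by omega)
    · -- an odd step changes the base
      rcases Nat.mod_two_eq_zero_or_one p with hpp | hpp
      · rw [evalO _ _ (by omega : (p + γ) % 2 = 1), evalE _ _ hpp]
        refine ⟨fun h1 h2 h3 => ?_, fun h1 h2 => ?_, fun h1 h2 h3 => ?_⟩
        · simp only [L0, if_neg (show ¬ o = 0 by omega)]
          split_ifs <;> first | rfl | omega | (congr 2; omega)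
        · simp only [L0, if_neg (show ¬ o = 0 by omega)]
          split_ifs <;> first | rfl | omega
        · simp only [L0]
          split_ifs <;> first | rfl | omega
      · rw [evalE _ _ (by omega : (p + γ) % 2 = 0), evalO _ _ hpp]
        refine ⟨fun h1 h2 h3 => absurd h1 (by omega), fun h1 h2 => absurd h1 (by omega), fun h1 h2 h3 => ?_⟩
        simp only [L0, if_neg (show ¬ o = 0 by omega)]
        split_ifs <;> first | rfl | omega

theorem length_even {A : Subalgebra k k⟦X⟧} (δ : ℕ) (hA : MonAlg A (sg δ)) (i j : ℕ) (hi : i ≤ δ) (hj : j ≤ δ) :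
    Module.length ↥A (CategoryTheory.Abelian.Ext.{u}
      (ModuleCat.of ↥A ↥(Submodule.span ↥A ({1, (X : k⟦X⟧) ^ (2 * δ + 1 - 2 * i)} : Set k⟦X⟧)))
      (ModuleCat.of ↥A ↥(Submodule.span ↥A ({1, (X : k⟦X⟧) ^ (2 * δ + 1 - 2 * j)} : Set k⟦X⟧))) 1) =
      ((2 * min i j : ℕ) : ℕ∞) := by
  classical
  let mkMod : ∀ l, l ≤ δ → MonMod A (sg δ)
      ↥(Submodule.span ↥A ({1, (X : k⟦X⟧) ^ (2 * δ + 1 - 2 * l)} : Set k⟦X⟧)) := fun l hl =>
    spanMod hA _ {0, 2 * δ + 1 - 2 * l} (by simp [Set.image_insert_eq]) (ex δ l)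
      (by intro a ha; simp at ha; rcases ha with rfl | rfl <;> simp [ex] <;> omega)
      (fun γ hγ m hm => by simp only [sg, ex, Set.mem_ofPred_eq] at hγ hm ⊢; omega)
      (fun m hm => by
        simp only [ex, Set.mem_ofPred_eq] at hm
        by_cases h : m % 2 = 0
        · exact ⟨0, by simp, Nat.zero_le _, Or.inl h⟩
        · exact ⟨2 * δ + 1 - 2 * l, by simp, by omega, Or.inl (by omega)⟩)
      (Or.inl rfl) (2 * δ + 1) (fun m hm => Or.inr (by omega))
  rw [length_mono hA (mkMod i hi) (mkMod j hj) (2 * δ) (2 * δ) 0 rfl (Or.inl (by omega))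
    (fun m (hm : m ∈ ex δ i) => by simp only [ex, sg, Set.mem_ofPred_eq] at hm ⊢; omega)
    (Or.inl rfl) _ (sol_even δ i j hi hj), Nat.add_sub_cancel_left]

end Groth.Agent.TFExt45.Aeven
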