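import Groth.Agent.Lib.TFExt45.Base
import Mathlib.RingTheory.PowerSeries.Order
import Mathlib.RingTheory.PowerSeries.Inverse

/-!
# Rank one modules over the two-branch singularities `A_{2δ-1}`

The module `I_j` is free over the diagonal `k⟦X⟧` with basis `e_j = (X^j, X^j)` and
`s = (X^δ, 0)`.  `Ext¹(I_i, I_j)` is the cokernel of reduction modulo `x = (X^δ, X^δ)`, and we write
down a surjection of `Hom(I_i, I_j / x I_j)` onto `k^m × k^m` (`m = min i j`) whose kernel is the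
image of `Hom(I_i, I_j)`.
-/

set_option autoImplicit false
set_option maxSynthPendingDepth 3
set_option synthInstance.maxHeartbeats 400000

noncomputable section

namespace Groth.Agent.TFExt45.Aodd

open PowerSeries CategoryTheory

universe u

variable {k : Type u} [Field k]

theorem le_order_iff_dvd (δ : ℕ) (f : k⟦X⟧) : (δ : ℕ∞) ≤ order f ↔ X ^ δ ∣ f := by
  rw [X_pow_dvd_iff]
  exact ⟨fun h m hm => coeff_of_lt_order m (lt_of_lt_of_le (by exact_mod_cast hm) h),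
    fun h => nat_le_order f δ h⟩

/-- Forgetting the coefficients from `δ` on. -/
def cut (δ : ℕ) : k⟦X⟧ →ₗ[k] k⟦X⟧ where
  toFun f := PowerSeries.mk fun n => if n < δ then coeff n f else 0
  map_add' f g := by ext n; simp only [map_add, coeff_mk]; split <;> simp
  map_smul' c f := by ext n; simp only [coeff_mk, RingHom.id_apply, coeff_smul]; split <;> simp

theorem coeff_cut (δ n : ℕ) (f : k⟦X⟧) : coeff n (cut δ f) = if n < δ then coeff n f else 0 := by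
  simp [cut]

theorem cut_eq_cut (δ : ℕ) (f g : k⟦X⟧) : cut δ f = cut δ g ↔ X ^ δ ∣ f - g := by
  rw [X_pow_dvd_iff, PowerSeries.ext_iff]
  simp only [coeff_cut, map_sub, sub_eq_zero]
  exact ⟨fun h m hm => by simpa [hm] using h m, fun h n => by split <;> [exact h n ‹_›; rfl]⟩

theorem cut_sub_dvd (δ : ℕ) (f : k⟦X⟧) : X ^ δ ∣ cut δ f - f := by
  rw [X_pow_dvd_iff]
  intro m hm
  rw [map_sub, coeff_cut, if_pos hm, sub_self]

theorem cut_of_dvd (δ : ℕ) (f : k⟦X⟧) (h : X ^ δ ∣ f) : cut δ f = 0 := by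
  rw [← map_zero (cut δ), cut_eq_cut, sub_zero]
  exact h

variable {δ : ℕ} {O : Subalgebra k (k⟦X⟧ × k⟦X⟧)}

variable (O δ) in
/-- The rank one module with index `j`. -/
abbrev I (j : ℕ) : Submodule ↥O (k⟦X⟧ × k⟦X⟧) :=
  Submodule.span ↥O ({((X : k⟦X⟧) ^ j, (X : k⟦X⟧) ^ j), ((X : k⟦X⟧) ^ δ, 0)} : Set (k⟦X⟧ × k⟦X⟧))

instance instAddI (j : ℕ) : AddCommGroup ↥(I δ O j) := Submodule.addCommGroup _
instance instModI (j : ℕ) : Module ↥O ↥(I δ O j) := Submodule.module _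
instance instModkI (j : ℕ) : Module k ↥(I δ O j) := Submodule.module' _
instance instTowerI (j : ℕ) : IsScalarTower k ↥O ↥(I δ O j) := Submodule.isScalarTower' _

variable (hO : ∀ f : k⟦X⟧ × k⟦X⟧, f ∈ O ↔ (δ : ℕ∞) ≤ order (f.1 - f.2))
include hO

theorem mem_O (f : k⟦X⟧ × k⟦X⟧) : f ∈ O ↔ X ^ δ ∣ f.1 - f.2 :=
  (hO f).trans (le_order_iff_dvd δ _)

/-- The diagonal. -/
def dg (p : k⟦X⟧) : ↥O := ⟨(p, p), (mem_O hO _).2 (by rw [sub_self]; exact dvd_zero _)⟩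

/-- The element `(X^δ, 0)` of the ring. -/
def sO : ↥O := ⟨((X : k⟦X⟧) ^ δ, 0), (mem_O hO _).2 (by rw [sub_zero])⟩

theorem mem_I (j : ℕ) (w : k⟦X⟧ × k⟦X⟧) :
    w ∈ I δ O j ↔ ∃ p q : k⟦X⟧, w = (X ^ j * p + X ^ δ * q, X ^ j * p) := by
  constructor
  · intro hw
    induction hw using Submodule.span_induction with
    | mem w hw =>
      rcases hw with rfl | rfl
      · exact ⟨1, 0, by simp⟩
      · exact ⟨0, 1, by simp⟩
    | zero => exact ⟨0, 0, Prod.ext (by simp) (by simp)⟩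
    | add x y _ _ hx hy =>
      obtain ⟨p, q, rfl⟩ := hx
      obtain ⟨p', q', rfl⟩ := hy
      exact ⟨p + p', q + q', by simp only [Prod.mk_add_mk]; exact Prod.ext (by ring) (by ring)⟩
    | smul a x _ hx =>
      obtain ⟨p, q, rfl⟩ := hx
      obtain ⟨r, hr⟩ := (mem_O hO _).1 a.2
      refine ⟨(a : k⟦X⟧ × k⟦X⟧).2 * p, (a : k⟦X⟧ × k⟦X⟧).1 * q + X ^ j * r * p, Prod.ext ?_ ?_⟩
      · show (a : k⟦X⟧ × k⟦X⟧).1 * (X ^ j * p + X ^ δ * q) = _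
        linear_combination (X ^ j * p) * hr
      · show (a : k⟦X⟧ × k⟦X⟧).2 * (X ^ j * p) = _
        ring
  · rintro ⟨p, q, rfl⟩
    have h : ((X ^ j * p + X ^ δ * q, X ^ j * p) : k⟦X⟧ × k⟦X⟧) =
        dg hO p • ((X : k⟦X⟧) ^ j, (X : k⟦X⟧) ^ j) + dg hO q • ((X : k⟦X⟧) ^ δ, (0 : k⟦X⟧)) :=
      Prod.ext (show X ^ j * p + X ^ δ * q = p * X ^ j + q * X ^ δ by ring)
        (show X ^ j * p = p * X ^ j + q * 0 by ring)
    rw [h]
    exact add_mem (Submodule.smul_mem _ _ (Submodule.subset_span (by simp)))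
      (Submodule.smul_mem _ _ (Submodule.subset_span (by simp)))

/-- The coordinate map on `I_j`. -/
def ψfun (j : ℕ) (pq : k⟦X⟧ × k⟦X⟧) : ↥(I δ O j) :=
  ⟨(X ^ j * pq.1 + X ^ δ * pq.2, X ^ j * pq.1), (mem_I hO j _).2 ⟨_, _, rfl⟩⟩

/-- The coordinates on `I_j`. -/
def ψ (j : ℕ) : (k⟦X⟧ × k⟦X⟧) ≃ₗ[k] ↥(I δ O j) :=
  LinearEquiv.ofBijective
    { toFun := ψfun hO j
      map_add' := fun x y => by
        refine Subtype.ext (Prod.ext ?_ ?_)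
        · show X ^ j * (x.1 + y.1) + X ^ δ * (x.2 + y.2) =
            X ^ j * x.1 + X ^ δ * x.2 + (X ^ j * y.1 + X ^ δ * y.2)
          ring
        · show X ^ j * (x.1 + y.1) = X ^ j * x.1 + X ^ j * y.1
          ring
      map_smul' := fun c x => by
        refine Subtype.ext (Prod.ext ?_ ?_)
        · show X ^ j * (c • x.1) + X ^ δ * (c • x.2) = c • (X ^ j * x.1 + X ^ δ * x.2)
          simp only [mul_smul_comm, smul_add]
        · show X ^ j * (c • x.1) = c • (X ^ j * x.1)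
          exact mul_smul_comm _ _ _ }
    ⟨fun x y h => by
      simp only [LinearMap.coe_mk, AddHom.coe_mk, ψfun, Subtype.mk.injEq, Prod.mk.injEq] at h
      obtain ⟨h1, h2⟩ := h
      rw [h2, add_right_inj] at h1
      exact Prod.ext (mul_left_cancel₀ (pow_ne_zero j X_ne_zero) h2)
        (mul_left_cancel₀ (pow_ne_zero δ X_ne_zero) h1),
    fun ⟨w, hw⟩ => by
      obtain ⟨p, q, rfl⟩ := (mem_I hO j w).1 hw
      exact ⟨(p, q), rfl⟩⟩

theorem ψ_apply (j : ℕ) (p q : k⟦X⟧) :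
    (ψ hO j (p, q) : k⟦X⟧ × k⟦X⟧) = (X ^ j * p + X ^ δ * q, X ^ j * p) := rfl

theorem smul_ψ (j : ℕ) (a : ↥O) (r : k⟦X⟧)
    (hr : (a : k⟦X⟧ × k⟦X⟧).1 - (a : k⟦X⟧ × k⟦X⟧).2 = X ^ δ * r) (p q : k⟦X⟧) :
    a • ψ hO j (p, q) = ψ hO j ((a : k⟦X⟧ × k⟦X⟧).2 * p, (a : k⟦X⟧ × k⟦X⟧).1 * q + X ^ j * r * p) := by
  refine Subtype.ext (Prod.ext ?_ ?_)
  · show (a : k⟦X⟧ × k⟦X⟧).1 * (X ^ j * p + X ^ δ * q) = _
    rw [ψ_apply]
    linear_combination (X ^ j * p) * hr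
  · show (a : k⟦X⟧ × k⟦X⟧).2 * (X ^ j * p) = _
    rw [ψ_apply]
    ring

theorem dg_smul_ψ (j : ℕ) (f p q : k⟦X⟧) : dg hO f • ψ hO j (p, q) = ψ hO j (f * p, f * q) := by
  rw [smul_ψ hO j _ 0 (show f - f = X ^ δ * 0 by ring), mul_zero, zero_mul, add_zero]
  rfl

theorem sO_smul_ψ (j : ℕ) (p q : k⟦X⟧) :
    sO hO • ψ hO j (p, q) = ψ hO j (0, X ^ δ * q + X ^ j * p) := by
  rw [smul_ψ hO j (sO hO) 1 (show (X : k⟦X⟧) ^ δ - 0 = X ^ δ * 1 by ring), mul_one]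
  show ψ hO j (0 * p, X ^ δ * q + X ^ j * p) = _
  rw [zero_mul]

theorem ψ_gen (j : ℕ) (p q : k⟦X⟧) :
    ψ hO j (p, q) = dg hO p • ψ hO j (1, 0) + dg hO q • ψ hO j (0, 1) := by
  rw [dg_smul_ψ, dg_smul_ψ, ← map_add]
  simp

theorem ext_gen {V : Type u} [AddCommGroup V] [Module ↥O V] (i : ℕ) (φ φ' : ↥(I δ O i) →ₗ[↥O] V)
    (he : φ (ψ hO i (1, 0)) = φ' (ψ hO i (1, 0))) (hs : φ (ψ hO i (0, 1)) = φ' (ψ hO i (0, 1))) :
    φ = φ' := by
  refine LinearMap.ext fun w => ?_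
  obtain ⟨⟨p, q⟩, rfl⟩ := (ψ hO i).surjective w
  rw [ψ_gen, map_add, map_add, map_smul, map_smul, map_smul, map_smul, he, hs]

/-- The submodule `x I_j`. -/
abbrev xI (j : ℕ) : Submodule ↥O ↥(I δ O j) :=
  LinearMap.range (LinearMap.lsmul ↥O ↥(I δ O j) (dg hO (X ^ δ)))

theorem ψ_mem_xI (j : ℕ) (p q : k⟦X⟧) :
    ψ hO j (p, q) ∈ xI hO j ↔ X ^ δ ∣ p ∧ X ^ δ ∣ q := by
  constructor
  · rintro ⟨w, hw⟩
    obtain ⟨⟨p', q'⟩, rfl⟩ := (ψ hO j).surjective w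
    rw [LinearMap.lsmul_apply, dg_smul_ψ] at hw
    have h := (ψ hO j).injective hw
    simp only [Prod.mk.injEq] at h
    exact ⟨⟨p', h.1.symm⟩, ⟨q', h.2.symm⟩⟩
  · rintro ⟨⟨p', rfl⟩, ⟨q', rfl⟩⟩
    exact ⟨ψ hO j (p', q'), dg_smul_ψ hO j _ _ _⟩

theorem mk_ψ_eq (j : ℕ) (p q p' q' : k⟦X⟧) :
    (Submodule.Quotient.mk (ψ hO j (p, q)) : ↥(I δ O j) ⧸ xI hO j) =
      Submodule.Quotient.mk (ψ hO j (p', q')) ↔ X ^ δ ∣ p - p' ∧ X ^ δ ∣ q - q' := by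
  rw [Submodule.Quotient.eq, ← map_sub, Prod.mk_sub_mk, ψ_mem_xI]

/-- Truncated coordinates on `I_j / x I_j`. -/
def π (j : ℕ) : (↥(I δ O j) ⧸ xI hO j) →ₗ[k] k⟦X⟧ × k⟦X⟧ :=
  ((xI hO j).restrictScalars k).liftQ (((cut δ).prodMap (cut δ)) ∘ₗ (ψ hO j).symm.toLinearMap)
    fun w hw => by
      obtain ⟨⟨p, q⟩, rfl⟩ := (ψ hO j).surjective w
      obtain ⟨h1, h2⟩ := (ψ_mem_xI hO j p q).1 hw
      rw [LinearMap.mem_ker]
      show ((cut δ).prodMap (cut δ)) ((ψ hO j).symm (ψ hO j (p, q))) = 0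
      rw [LinearEquiv.symm_apply_apply]
      exact Prod.ext (cut_of_dvd δ p h1) (cut_of_dvd δ q h2)

theorem π_mk (j : ℕ) (p q : k⟦X⟧) :
    π hO j (Submodule.Quotient.mk (ψ hO j (p, q))) = (cut δ p, cut δ q) := by
  show ((cut δ).prodMap (cut δ)) ((ψ hO j).symm (ψ hO j (p, q))) = _
  rw [LinearEquiv.symm_apply_apply]
  rfl

theorem mk_π (j : ℕ) (z : ↥(I δ O j) ⧸ xI hO j) :
    Submodule.Quotient.mk (ψ hO j (π hO j z)) = z := by
  obtain ⟨w, rfl⟩ := Submodule.Quotient.mk_surjective _ z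
  obtain ⟨⟨p, q⟩, rfl⟩ := (ψ hO j).surjective w
  rw [π_mk, mk_ψ_eq]
  exact ⟨cut_sub_dvd δ p, cut_sub_dvd δ q⟩

theorem hom_cond (i j : ℕ) (φ : ↥(I δ O i) →ₗ[↥O] ↥(I δ O j) ⧸ xI hO j) (a c b d : k⟦X⟧)
    (he : φ (ψ hO i (1, 0)) = Submodule.Quotient.mk (ψ hO j (a, c)))
    (hs : φ (ψ hO i (0, 1)) = Submodule.Quotient.mk (ψ hO j (b, d))) :
    X ^ δ ∣ X ^ i * b ∧ X ^ δ ∣ X ^ j * b ∧ X ^ δ ∣ X ^ i * d - X ^ j * a := by
  have h1 : sO hO • φ (ψ hO i (1, 0)) = dg hO (X ^ i) • φ (ψ hO i (0, 1)) := by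
    rw [← LinearMap.map_smul, ← LinearMap.map_smul, sO_smul_ψ, dg_smul_ψ]
    simp
  have h2 : sO hO • φ (ψ hO i (0, 1)) = dg hO (X ^ δ) • φ (ψ hO i (0, 1)) := by
    rw [← LinearMap.map_smul, ← LinearMap.map_smul, sO_smul_ψ, dg_smul_ψ]
    simp
  rw [he, hs, ← Submodule.Quotient.mk_smul, ← Submodule.Quotient.mk_smul, sO_smul_ψ, dg_smul_ψ,
    mk_ψ_eq] at h1
  rw [hs, ← Submodule.Quotient.mk_smul, ← Submodule.Quotient.mk_smul, sO_smul_ψ, dg_smul_ψ,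
    mk_ψ_eq] at h2
  obtain ⟨u, hu⟩ := h1.1
  obtain ⟨v, hv⟩ := h1.2
  obtain ⟨w, hw⟩ := h2.2
  exact ⟨⟨-u, by linear_combination (-1 : k⟦X⟧) * hu⟩, ⟨w, by linear_combination hw⟩,
    ⟨c - v, by linear_combination (-1 : k⟦X⟧) * hv⟩⟩

theorem hom_exact (i j : ℕ) (f : ↥(I δ O i) →ₗ[↥O] ↥(I δ O j)) (A C B D : k⟦X⟧)
    (he : f (ψ hO i (1, 0)) = ψ hO j (A, C)) (hs : f (ψ hO i (0, 1)) = ψ hO j (B, D)) :
    B = 0 ∧ X ^ i * D = X ^ j * A + X ^ δ * C := by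
  have h1 : sO hO • f (ψ hO i (1, 0)) = dg hO (X ^ i) • f (ψ hO i (0, 1)) := by
    rw [← LinearMap.map_smul, ← LinearMap.map_smul, sO_smul_ψ, dg_smul_ψ]
    simp
  rw [he, hs, sO_smul_ψ, dg_smul_ψ] at h1
  have h := (ψ hO j).injective h1
  simp only [Prod.mk.injEq] at h
  exact ⟨(mul_eq_zero.1 h.1.symm).resolve_left (pow_ne_zero i X_ne_zero), by rw [← h.2]; ring⟩

/-- A homomorphism from exact data. -/
def ofData (i j : ℕ) (A C D : k⟦X⟧) (h : X ^ i * D = X ^ j * A + X ^ δ * C) :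
    ↥(I δ O i) →ₗ[↥O] ↥(I δ O j) where
  toFun w := ψ hO j (A * ((ψ hO i).symm w).1, C * ((ψ hO i).symm w).1 + D * ((ψ hO i).symm w).2)
  map_add' w w' := by
    rw [← map_add, map_add (ψ hO i).symm]
    exact congrArg _ (Prod.ext (mul_add _ _ _) (by simp only [Prod.fst_add, Prod.snd_add]; ring))
  map_smul' a w := by
    obtain ⟨⟨p, q⟩, rfl⟩ := (ψ hO i).surjective w
    obtain ⟨r, hr⟩ := (mem_O hO _).1 a.2
    rw [RingHom.id_apply, smul_ψ hO i a r hr, LinearEquiv.symm_apply_apply, LinearEquiv.symm_apply_apply,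
      smul_ψ hO j a r hr]
    refine congrArg _ (Prod.ext ?_ ?_)
    · show A * ((a : k⟦X⟧ × k⟦X⟧).2 * p) = (a : k⟦X⟧ × k⟦X⟧).2 * (A * p)
      ring
    · show C * ((a : k⟦X⟧ × k⟦X⟧).2 * p) + D * ((a : k⟦X⟧ × k⟦X⟧).1 * q + X ^ i * r * p) =
        (a : k⟦X⟧ × k⟦X⟧).1 * (C * p + D * q) + X ^ j * r * (A * p)
      linear_combination (r * p) * h - (C * p) * hr

theorem ofData_apply (i j : ℕ) (A C D : k⟦X⟧) (h : X ^ i * D = X ^ j * A + X ^ δ * C) (p q : k⟦X⟧) :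
    ofData hO i j A C D h (ψ hO i (p, q)) = ψ hO j (A * p, C * p + D * q) := by
  show ψ hO j (A * ((ψ hO i).symm (ψ hO i (p, q))).1,
    C * ((ψ hO i).symm (ψ hO i (p, q))).1 + D * ((ψ hO i).symm (ψ hO i (p, q))).2) = _
  rw [LinearEquiv.symm_apply_apply]

/-- A homomorphism modulo `x` from congruence data. -/
def ofCong (i j : ℕ) (a c b d : k⟦X⟧) (h1 : X ^ δ ∣ X ^ i * b) (h2 : X ^ δ ∣ X ^ j * b)
    (h3 : X ^ δ ∣ X ^ i * d - X ^ j * a) : ↥(I δ O i) →ₗ[↥O] ↥(I δ O j) ⧸ xI hO j where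
  toFun w := Submodule.Quotient.mk (ψ hO j
    (a * ((ψ hO i).symm w).1 + b * ((ψ hO i).symm w).2, c * ((ψ hO i).symm w).1 + d * ((ψ hO i).symm w).2))
  map_add' w w' := by
    rw [← Submodule.Quotient.mk_add, ← map_add, map_add (ψ hO i).symm]
    refine congrArg _ (congrArg _ (Prod.ext ?_ ?_)) <;> simp only [Prod.fst_add, Prod.snd_add] <;> ring
  map_smul' s w := by
    obtain ⟨⟨p, q⟩, rfl⟩ := (ψ hO i).surjective w
    obtain ⟨r, hr⟩ := (mem_O hO _).1 s.2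
    obtain ⟨u1, hu1⟩ := h1
    obtain ⟨u2, hu2⟩ := h2
    obtain ⟨u3, hu3⟩ := h3
    rw [RingHom.id_apply, smul_ψ hO i s r hr, LinearEquiv.symm_apply_apply, LinearEquiv.symm_apply_apply,
      ← Submodule.Quotient.mk_smul, smul_ψ hO j s r hr, mk_ψ_eq]
    refine ⟨⟨u1 * r * p + b * r * q, ?_⟩, ⟨u3 * r * p - r * c * p - u2 * r * q, ?_⟩⟩
    · show a * ((s : k⟦X⟧ × k⟦X⟧).2 * p) + b * ((s : k⟦X⟧ × k⟦X⟧).1 * q + X ^ i * r * p) -
        (s : k⟦X⟧ × k⟦X⟧).2 * (a * p + b * q) = _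
      linear_combination (r * p) * hu1 + (b * q) * hr
    · show c * ((s : k⟦X⟧ × k⟦X⟧).2 * p) + d * ((s : k⟦X⟧ × k⟦X⟧).1 * q + X ^ i * r * p) -
        ((s : k⟦X⟧ × k⟦X⟧).1 * (c * p + d * q) + X ^ j * r * (a * p + b * q)) = _
      linear_combination (r * p) * hu3 - (r * q) * hu2 - (c * p) * hr

theorem ofCong_apply (i j : ℕ) (a c b d : k⟦X⟧) (h1 : X ^ δ ∣ X ^ i * b) (h2 : X ^ δ ∣ X ^ j * b)
    (h3 : X ^ δ ∣ X ^ i * d - X ^ j * a) (p q : k⟦X⟧) :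
    ofCong hO i j a c b d h1 h2 h3 (ψ hO i (p, q)) =
      Submodule.Quotient.mk (ψ hO j (a * p + b * q, c * p + d * q)) := by
  show Submodule.Quotient.mk (ψ hO j (a * ((ψ hO i).symm (ψ hO i (p, q))).1 +
    b * ((ψ hO i).symm (ψ hO i (p, q))).2, c * ((ψ hO i).symm (ψ hO i (p, q))).1 +
    d * ((ψ hO i).symm (ψ hO i (p, q))).2)) = _
  rw [LinearEquiv.symm_apply_apply]

/-- The obstruction to lifting a homomorphism modulo `x`. -/
def Θ (i j m : ℕ) :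
    (↥(I δ O i) →ₗ[↥O] ↥(I δ O j) ⧸ xI hO j) →ₗ[k] (Fin m → k) × (Fin m → k) where
  toFun φ :=
    (fun n => coeff (δ - m + n) (π hO j (φ (ψ hO i (0, 1)))).1,
      fun n => coeff (δ - m + n) (X ^ (i - m) * (π hO j (φ (ψ hO i (0, 1)))).2 -
        X ^ (j - m) * (π hO j (φ (ψ hO i (1, 0)))).1 - X ^ (δ - m) * (π hO j (φ (ψ hO i (1, 0)))).2))
  map_add' φ φ' := by
    refine Prod.ext (funext fun n => ?_) (funext fun n => ?_) <;>
      simp only [LinearMap.add_apply, map_add, Prod.fst_add, Prod.snd_add, Pi.add_apply, mul_add,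
        map_sub] <;> ring
  map_smul' c φ := by
    refine Prod.ext (funext fun n => ?_) (funext fun n => ?_) <;>
      simp only [LinearMap.smul_apply, map_smul, Prod.smul_fst, Prod.smul_snd, Pi.smul_apply,
        mul_smul_comm, map_sub, RingHom.id_apply, smul_sub]

omit hO in
theorem dvd_of_coeff {f : k⟦X⟧} {m : ℕ} (hm : m ≤ δ) (h1 : X ^ δ ∣ X ^ m * f)
    (h2 : ∀ n : Fin m, coeff (δ - m + n) f = 0) : X ^ δ ∣ f := by
  have h3 : X ^ (δ - m) ∣ f := by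
    rw [show δ = m + (δ - m) by omega, pow_add] at h1
    exact (mul_dvd_mul_iff_left (pow_ne_zero m X_ne_zero)).1 h1
  rw [X_pow_dvd_iff] at h3 ⊢
  intro l hl
  by_cases h : l < δ - m
  · exact h3 l h
  · have := h2 ⟨l - (δ - m), by omega⟩
    rwa [show δ - m + (l - (δ - m)) = l by omega] at this

omit hO in
theorem coeff_eq_of_dvd {f g : k⟦X⟧} (h : X ^ δ ∣ f - g) {l : ℕ} (hl : l < δ) : coeff l f = coeff l g := by
  rw [← sub_eq_zero, ← map_sub]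
  exact X_pow_dvd_iff.1 h l hl

theorem Θ_red (i j m : ℕ) (hm : m ≤ δ) (hmi : m ≤ i) (hmj : m ≤ j)
    (f : ↥(I δ O i) →ₗ[↥O] ↥(I δ O j)) :
    Θ hO i j m (Groth.Agent.TFExt45.Base.red ↥(I δ O i) ↥(I δ O j) (dg hO (X ^ δ)) f) = 0 := by
  obtain ⟨⟨A, C⟩, hA⟩ := (ψ hO j).surjective (f (ψ hO i (1, 0)))
  obtain ⟨⟨B, D⟩, hB⟩ := (ψ hO j).surjective (f (ψ hO i (0, 1)))
  obtain ⟨rfl, hD⟩ := hom_exact hO i j f A C B D hA.symm hB.symm
  have hE : X ^ (i - m) * D - X ^ (j - m) * A - X ^ (δ - m) * C = 0 := by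
    refine (mul_eq_zero.1 (?_ : X ^ m * _ = (0 : k⟦X⟧))).resolve_left (pow_ne_zero m X_ne_zero)
    rw [mul_sub, mul_sub, ← mul_assoc, ← mul_assoc, ← mul_assoc, ← pow_add, ← pow_add, ← pow_add,
      Nat.add_sub_cancel' hmi, Nat.add_sub_cancel' hmj, Nat.add_sub_cancel' hm, hD]
    ring
  have e1 : π hO j (Groth.Agent.TFExt45.Base.red ↥(I δ O i) ↥(I δ O j) (dg hO (X ^ δ)) f
      (ψ hO i (1, 0))) = (cut δ A, cut δ C) := by
    rw [← π_mk hO j A C, hA]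
    rfl
  have e2 : π hO j (Groth.Agent.TFExt45.Base.red ↥(I δ O i) ↥(I δ O j) (dg hO (X ^ δ)) f
      (ψ hO i (0, 1))) = (cut δ (0 : k⟦X⟧), cut δ D) := by
    rw [← π_mk hO j 0 D, hB]
    rfl
  refine Prod.ext (funext fun n => ?_) (funext fun n => ?_)
  · show coeff _ (π hO j _).1 = 0
    rw [e2, map_zero, map_zero]
  · show coeff _ (_ - _ - _) = 0
    rw [e1, e2, ← map_zero (coeff (R := k) (δ - m + n)), ← hE]
    refine coeff_eq_of_dvd (δ := δ) ?_ (by omega)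
    obtain ⟨a, ha⟩ := cut_sub_dvd δ A
    obtain ⟨c, hc⟩ := cut_sub_dvd δ C
    obtain ⟨d, hd⟩ := cut_sub_dvd δ D
    exact ⟨X ^ (i - m) * d - X ^ (j - m) * a - X ^ (δ - m) * c,
      by linear_combination X ^ (i - m) * hd - X ^ (j - m) * ha - X ^ (δ - m) * hc⟩

theorem Θ_ker (i j : ℕ) (hi : i ≤ δ) (hj : j ≤ δ)
    (φ : ↥(I δ O i) →ₗ[↥O] ↥(I δ O j) ⧸ xI hO j) (hφ : Θ hO i j (min i j) φ = 0) :
    ∃ f, Groth.Agent.TFExt45.Base.red ↥(I δ O i) ↥(I δ O j) (dg hO (X ^ δ)) f = φ := by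
  set m := min i j with hm
  set a := (π hO j (φ (ψ hO i (1, 0)))).1 with ha
  set c := (π hO j (φ (ψ hO i (1, 0)))).2 with hc
  set b := (π hO j (φ (ψ hO i (0, 1)))).1 with hb
  set d := (π hO j (φ (ψ hO i (0, 1)))).2 with hd
  have he : φ (ψ hO i (1, 0)) = Submodule.Quotient.mk (ψ hO j (a, c)) := (mk_π hO j _).symm
  have hs : φ (ψ hO i (0, 1)) = Submodule.Quotient.mk (ψ hO j (b, d)) := (mk_π hO j _).symm
  obtain ⟨h1, h2, h3⟩ := hom_cond hO i j φ a c b d he hs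
  have hb0 : X ^ δ ∣ b := dvd_of_coeff (show m ≤ δ by omega)
    (by rcases min_choice i j with h | h <;> rw [hm, h] <;> assumption)
    fun n => congrFun (congrArg Prod.fst hφ) n
  have hE : X ^ δ ∣ X ^ (i - m) * d - X ^ (j - m) * a - X ^ (δ - m) * c := by
    refine dvd_of_coeff (show m ≤ δ by omega) ?_ fun n => congrFun (congrArg Prod.snd hφ) n
    rw [mul_sub, mul_sub, ← mul_assoc, ← mul_assoc, ← mul_assoc, ← pow_add, ← pow_add, ← pow_add,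
      Nat.add_sub_cancel' (show m ≤ i by omega), Nat.add_sub_cancel' (show m ≤ j by omega),
      Nat.add_sub_cancel' (show m ≤ δ by omega)]
    exact dvd_sub h3 (dvd_mul_right _ _)
  obtain ⟨e, heE⟩ := hE
  by_cases hij : i ≤ j
  · rw [show i - m = 0 by omega, show j - m = j - i by omega, show δ - m = δ - i by omega, pow_zero,
      one_mul] at heE
    refine ⟨ofData hO i j a c (X ^ (j - i) * a + X ^ (δ - i) * c) (by
      rw [mul_add, ← mul_assoc, ← mul_assoc, ← pow_add, ← pow_add, Nat.add_sub_cancel' hij,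
        Nat.add_sub_cancel' hi]), ext_gen hO i _ _ ?_ ?_⟩
    · rw [he]
      show Submodule.Quotient.mk (ofData hO i j _ _ _ _ (ψ hO i (1, 0))) = _
      rw [ofData_apply]
      simp
    · rw [hs]
      show Submodule.Quotient.mk (ofData hO i j _ _ _ _ (ψ hO i (0, 1))) = _
      rw [ofData_apply, mk_ψ_eq]
      obtain ⟨v, hv⟩ := hb0
      exact ⟨⟨-v, by linear_combination (-1 : k⟦X⟧) * hv⟩,
        ⟨-e, by linear_combination (-1 : k⟦X⟧) * heE⟩⟩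
  · rw [show i - m = i - j by omega, show j - m = 0 by omega, show δ - m = δ - j by omega, pow_zero,
      one_mul] at heE
    refine ⟨ofData hO i j (X ^ (i - j) * d - X ^ (δ - j) * c) c d (by
      rw [mul_sub, ← mul_assoc, ← mul_assoc, ← pow_add, ← pow_add,
        Nat.add_sub_cancel' (show j ≤ i by omega), Nat.add_sub_cancel' hj]
      ring), ext_gen hO i _ _ ?_ ?_⟩
    · rw [he]
      show Submodule.Quotient.mk (ofData hO i j _ _ _ _ (ψ hO i (1, 0))) = _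
      rw [ofData_apply, mk_ψ_eq]
      exact ⟨⟨e, by linear_combination heE⟩, ⟨0, by ring⟩⟩
    · rw [hs]
      show Submodule.Quotient.mk (ofData hO i j _ _ _ _ (ψ hO i (0, 1))) = _
      rw [ofData_apply, mk_ψ_eq]
      obtain ⟨v, hv⟩ := hb0
      exact ⟨⟨-v, by linear_combination (-1 : k⟦X⟧) * hv⟩, ⟨0, by ring⟩⟩

theorem Θ_surj (i j : ℕ) (hi : i ≤ δ) (hj : j ≤ δ) : Function.Surjective (Θ hO i j (min i j)) := by
  set m := min i j with hm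
  rintro ⟨u, v⟩
  have key : ∀ w : Fin m → k, ∃ W : k⟦X⟧, ∀ n : Fin m, coeff (δ - m + n) (X ^ (δ - m) * W) = w n :=
    fun w => ⟨PowerSeries.mk fun l => if h : l < m then w ⟨l, h⟩ else 0, fun n => by
      rw [coeff_X_pow_mul', if_pos (by omega), coeff_mk,
        dif_pos (show δ - m + n - (δ - m) < m by omega)]
      exact congrArg w (Fin.ext (by simp))⟩
  obtain ⟨U, hU⟩ := key u
  obtain ⟨V, hV⟩ := key v
  have hdvd : ∀ l, m ≤ l → X ^ δ ∣ X ^ l * (X ^ (δ - m) * U) := fun l hl => by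
    rw [← mul_assoc, ← pow_add]
    exact dvd_mul_of_dvd_left (pow_dvd_pow _ (by omega)) _
  have hVd : X ^ δ ∣ X ^ m * (X ^ (δ - m) * V) := by
    rw [← mul_assoc, ← pow_add, Nat.add_sub_cancel' (show m ≤ δ by omega)]
    exact dvd_mul_right _ _
  let a : k⟦X⟧ := if i ≤ j then 0 else -(X ^ (δ - m) * V)
  let d : k⟦X⟧ := if i ≤ j then X ^ (δ - m) * V else 0
  have h3 : X ^ δ ∣ X ^ i * d - X ^ j * a := by
    simp only [a, d]
    split
    next h => rw [mul_zero, sub_zero]; rw [show m = i by omega] at hVd ⊢; exact hVd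
    next h => rw [mul_zero, zero_sub, mul_neg, neg_neg]; rw [show m = j by omega] at hVd ⊢; exact hVd
  refine ⟨ofCong hO i j a 0 (X ^ (δ - m) * U) d (hdvd i (by omega)) (hdvd j (by omega)) h3, ?_⟩
  have e1 : π hO j (ofCong hO i j a 0 (X ^ (δ - m) * U) d (hdvd i (by omega)) (hdvd j (by omega)) h3
      (ψ hO i (1, 0))) = (cut δ a, cut δ (0 : k⟦X⟧)) := by
    rw [ofCong_apply, π_mk]
    simp
  have e2 : π hO j (ofCong hO i j a 0 (X ^ (δ - m) * U) d (hdvd i (by omega)) (hdvd j (by omega)) h3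
      (ψ hO i (0, 1))) = (cut δ (X ^ (δ - m) * U), cut δ d) := by
    rw [ofCong_apply, π_mk]
    simp
  refine Prod.ext (funext fun n => ?_) (funext fun n => ?_)
  · show coeff _ (π hO j _).1 = u n
    rw [e2, coeff_cut, if_pos (by omega)]
    exact hU n
  · show coeff _ (_ - _ - _) = v n
    rw [e1, e2, map_zero, mul_zero, sub_zero, ← hV n]
    simp only [a, d]
    split
    next h =>
      rw [map_zero, mul_zero, sub_zero, show i - m = 0 by omega, pow_zero, one_mul, coeff_cut,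
        if_pos (by omega)]
    next h =>
      rw [map_zero, mul_zero, zero_sub, map_neg, show j - m = 0 by omega, pow_zero,
        one_mul, coeff_cut, if_pos (by omega), map_neg, neg_neg]

theorem hloc (hδ : 1 ≤ δ) :
    ∀ s : ↥O, ∃ c : k, ∀ b : ↥O, IsUnit (1 - b * (s - algebraMap k ↥O c)) := by
  intro s
  refine ⟨constantCoeff (s : k⟦X⟧ × k⟦X⟧).2, fun b => ?_⟩
  obtain ⟨r, hr⟩ := (mem_O hO _).1 s.2
  have hcc : constantCoeff (s : k⟦X⟧ × k⟦X⟧).1 = constantCoeff (s : k⟦X⟧ × k⟦X⟧).2 := by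
    have := congrArg (constantCoeff (R := k)) hr
    rw [map_sub, map_mul, map_pow, constantCoeff_X, zero_pow (by omega), zero_mul, sub_eq_zero] at this
    exact this
  set w : ↥O := 1 - b * (s - algebraMap k ↥O (constantCoeff (s : k⟦X⟧ × k⟦X⟧).2)) with hw
  have w1 : constantCoeff (w : k⟦X⟧ × k⟦X⟧).1 = 1 := by
    show constantCoeff ((1 : k⟦X⟧) - (b : k⟦X⟧ × k⟦X⟧).1 *
      ((s : k⟦X⟧ × k⟦X⟧).1 - algebraMap k k⟦X⟧ (constantCoeff (s : k⟦X⟧ × k⟦X⟧).2))) = 1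
    simp [hcc]
  have w2 : constantCoeff (w : k⟦X⟧ × k⟦X⟧).2 = 1 := by
    show constantCoeff ((1 : k⟦X⟧) - (b : k⟦X⟧ × k⟦X⟧).2 *
      ((s : k⟦X⟧ × k⟦X⟧).2 - algebraMap k k⟦X⟧ (constantCoeff (s : k⟦X⟧ × k⟦X⟧).2))) = 1
    simp
  have i1 := PowerSeries.mul_inv_cancel (w : k⟦X⟧ × k⟦X⟧).1 (by rw [w1]; exact one_ne_zero)
  have i2 := PowerSeries.mul_inv_cancel (w : k⟦X⟧ × k⟦X⟧).2 (by rw [w2]; exact one_ne_zero)
  obtain ⟨q, hq⟩ := (mem_O hO _).1 w.2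
  have hmem : ((w : k⟦X⟧ × k⟦X⟧).1⁻¹, (w : k⟦X⟧ × k⟦X⟧).2⁻¹) ∈ O := (mem_O hO _).2
    ⟨-(q * (w : k⟦X⟧ × k⟦X⟧).1⁻¹ * (w : k⟦X⟧ × k⟦X⟧).2⁻¹), by
      linear_combination (-(w : k⟦X⟧ × k⟦X⟧).1⁻¹) * i2 + (w : k⟦X⟧ × k⟦X⟧).2⁻¹ * i1 -
        ((w : k⟦X⟧ × k⟦X⟧).1⁻¹ * (w : k⟦X⟧ × k⟦X⟧).2⁻¹) * hq⟩
  exact IsUnit.of_mul_eq_one ⟨_, hmem⟩ (Subtype.ext (Prod.ext i1 i2))

theorem length_odd (hδ : 1 ≤ δ) (i j : ℕ) (hi : i ≤ δ) (hj : j ≤ δ) :
    Module.length ↥O (Abelian.Ext.{u} (ModuleCat.of ↥O ↥(I δ O i)) (ModuleCat.of ↥O ↥(I δ O j)) 1) =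
      ((2 * min i j : ℕ) : ℕ∞) := by
  have hgmem : ∀ w : ↥(I δ O i),
      ((X : k⟦X⟧) ^ (δ - i) * (w : k⟦X⟧ × k⟦X⟧).1, X ^ (δ - i) * (w : k⟦X⟧ × k⟦X⟧).2) ∈ O := by
    intro w
    obtain ⟨p, q, hw⟩ := (mem_I hO i _).1 w.2
    refine (mem_O hO _).2 ⟨X ^ (δ - i) * q, ?_⟩
    rw [hw]
    ring
  let g : ↥(I δ O i) →ₗ[↥O] ↥O :=
    { toFun := fun w => ⟨_, hgmem w⟩
      map_add' := fun w w' => Subtype.ext (Prod.ext (mul_add _ _ _) (mul_add _ _ _))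
      map_smul' := fun a w => Subtype.ext (Prod.ext (mul_left_comm _ _ _) (mul_left_comm _ _ _)) }
  let h : ↥O →ₗ[↥O] ↥(I δ O i) := LinearMap.toSpanSingleton ↥O ↥(I δ O i)
    ⟨((X : k⟦X⟧) ^ i, (X : k⟦X⟧) ^ i), Submodule.subset_span (by simp)⟩
  have hgh : h ∘ₗ g = dg hO (X ^ δ) • LinearMap.id := by
    refine LinearMap.ext fun w => Subtype.ext (Prod.ext ?_ ?_)
    · show X ^ (δ - i) * (w : k⟦X⟧ × k⟦X⟧).1 * X ^ i = X ^ δ * (w : k⟦X⟧ × k⟦X⟧).1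
      rw [mul_right_comm, ← pow_add, Nat.sub_add_cancel hi]
    · show X ^ (δ - i) * (w : k⟦X⟧ × k⟦X⟧).2 * X ^ i = X ^ δ * (w : k⟦X⟧ × k⟦X⟧).2
      rw [mul_right_comm, ← pow_add, Nat.sub_add_cancel hi]
  have hx : ∀ y : ↥(I δ O j), dg hO (X ^ δ) • y = 0 → y = 0 := by
    intro y hy
    obtain ⟨⟨p, q⟩, rfl⟩ := (ψ hO j).surjective y
    rw [dg_smul_ψ, LinearEquiv.map_eq_zero_iff, Prod.mk_eq_zero] at hy
    rw [LinearEquiv.map_eq_zero_iff, Prod.mk_eq_zero]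
    exact ⟨(mul_eq_zero.1 hy.1).resolve_left (pow_ne_zero δ X_ne_zero),
      (mul_eq_zero.1 hy.2).resolve_left (pow_ne_zero δ X_ne_zero)⟩
  obtain ⟨e⟩ := Groth.Agent.TFExt45.Base.ext_equiv ↥(I δ O i) ↥(I δ O j) (dg hO (X ^ δ)) hx g h hgh
  rw [e.length_eq]
  have hker : (LinearMap.range (Groth.Agent.TFExt45.Base.red ↥(I δ O i) ↥(I δ O j)
      (dg hO (X ^ δ)))).restrictScalars k = LinearMap.ker (Θ hO i j (min i j)) := by
    refine le_antisymm ?_ fun φ hφ => Θ_ker hO i j hi hj φ hφ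
    rintro _ ⟨f, rfl⟩
    exact Θ_red hO i j _ (by omega) (min_le_left _ _) (min_le_right _ _) f
  let e' := (Submodule.quotEquivOfEq _ _ hker).trans
    ((Θ hO i j (min i j)).quotKerEquivOfSurjective (Θ_surj hO i j hi hj))
  let e'' := (Submodule.Quotient.restrictScalarsEquiv k (LinearMap.range
    (Groth.Agent.TFExt45.Base.red ↥(I δ O i) ↥(I δ O j) (dg hO (X ^ δ))))).symm.trans e'
  have := Module.Finite.equiv e''.symm
  refine Groth.Agent.TFExt45.Base.length_eq_finrank (hloc hO hδ) _ _ ?_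
  rw [e''.finrank_eq, Module.finrank_prod, Module.finrank_pi, Fintype.card_fin]
  omega

end Groth.Agent.TFExt45.Aodd
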