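import Mathlib.Algebra.Category.ModuleCat.Ext.HasExt
import Mathlib.Algebra.Category.ModuleCat.Projective
import Mathlib.Algebra.Homology.DerivedCategory.Ext.Linear
import Mathlib.Algebra.Homology.DerivedCategory.Ext.ExactSequences
import Mathlib.Algebra.Homology.ShortComplex.ModuleCat
import Mathlib.CategoryTheory.Abelian.Projective.Ext
import Mathlib.RingTheory.Length
import Mathlib.RingTheory.SimpleModule.Basic
import Mathlib.LinearAlgebra.Dimension.RankNullity
import Mathlib.LinearAlgebra.FiniteDimensional.Lemmas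
import Mathlib.LinearAlgebra.Pi

/-!
# The length of `Ext¹` through homomorphisms modulo a regular element
-/

set_option autoImplicit false

noncomputable section

namespace Groth.Agent.TFExt45.Base

open CategoryTheory CategoryTheory.Abelian

universe u

variable {k : Type u} [Field k] {A : Type u} [CommRing A] [Algebra k A]

/-- Over an algebra with residue field `k` the length is the dimension. -/
theorem length_eq_finrank (hloc : ∀ a : A, ∃ c : k, ∀ b : A, IsUnit (1 - b * (a - algebraMap k A c))) :
    ∀ (n : ℕ) (V : Type u) [AddCommGroup V] [Module A V] [Module k V] [IsScalarTower k A V]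
      [FiniteDimensional k V], Module.finrank k V = n → Module.length A V = n := by
  classical
  intro n
  induction n using Nat.strong_induction_on with
  | _ n ih =>
    intro V _ _ _ _ _ hn
    rcases Nat.eq_zero_or_pos n with rfl | hpos
    · have := Module.finrank_zero_iff.1 hn
      simp [Module.length_eq_zero]
    · have hV : Nontrivial V := Module.finrank_pos_iff.1 (hn ▸ hpos)
      have hne : ∃ d, ∃ S : Submodule A V, S ≠ ⊥ ∧ Module.finrank k ↥(S.restrictScalars k) = d :=
        ⟨_, ⊤, top_ne_bot, rfl⟩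
      obtain ⟨S, hS, hSd⟩ := Nat.find_spec hne
      obtain ⟨v, hvS, hv⟩ := Submodule.exists_mem_ne_zero_of_ne_bot hS
      have hmin : ∀ w, w ∈ S → w ≠ 0 → Submodule.span A {w} = S := by
        intro w hwS hw
        have hle : Submodule.span A {w} ≤ S := (Submodule.span_singleton_le_iff_mem _ _).2 hwS
        have h1 := Submodule.eq_of_le_of_finrank_le (S₁ := (Submodule.span A {w}).restrictScalars k)
          (S₂ := S.restrictScalars k) hle (by
            rw [hSd]
            exact Nat.find_min' hne ⟨_, fun h => hw (Submodule.span_singleton_eq_bot.1 h), rfl⟩)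
        exact Submodule.restrictScalars_injective k A V h1
      have hline : ∀ a : A, ∃ c : k, a • v = c • v := by
        intro a
        obtain ⟨c, hc⟩ := hloc a
        refine ⟨c, ?_⟩
        set m := a - algebraMap k A c with hm
        have h0 : m • v = 0 := by
          by_contra hne'
          obtain ⟨b, hb⟩ := Submodule.mem_span_singleton.1
            (show v ∈ Submodule.span A {m • v} by rw [hmin _ (S.smul_mem m hvS) hne']; exact hvS)
          refine hv ((hc b).smul_eq_zero.1 ?_)
          rw [sub_smul, one_smul, mul_smul, hb, sub_self]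
        rw [hm, sub_smul, algebraMap_smul, sub_eq_zero] at h0
        exact h0
      let L : Submodule A V := Submodule.span A {v}
      have hLk : L.restrictScalars k = Submodule.span k {v} := by
        refine le_antisymm (fun w hw => ?_) ((Submodule.span_singleton_le_iff_mem _ _).2
          (Submodule.mem_span_singleton_self v))
        obtain ⟨a, rfl⟩ := Submodule.mem_span_singleton.1 hw
        obtain ⟨c, hc⟩ := hline a
        exact Submodule.mem_span_singleton.2 ⟨c, hc.symm⟩
      have : IsSimpleModule A ↥L := by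
        rw [isSimpleModule_iff_isAtom]
        refine ⟨fun h => hv (Submodule.span_singleton_eq_bot.1 h), fun L' hL' => ?_⟩
        by_contra hne'
        obtain ⟨w, hw, hw0⟩ := Submodule.exists_mem_ne_zero_of_ne_bot hne'
        obtain ⟨a, ha⟩ := Submodule.mem_span_singleton.1 (hL'.le hw)
        obtain ⟨c, hc⟩ := hline a
        rw [hc] at ha
        have hc0 : c ≠ 0 := by rintro rfl; simp at ha; exact hw0 ha.symm
        refine hL'.not_ge ((Submodule.span_singleton_le_iff_mem _ _).2 ?_)
        have := L'.smul_mem (algebraMap k A c⁻¹) hw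
        rwa [← ha, algebraMap_smul, smul_smul, inv_mul_cancel₀ hc0, one_smul] at this
      rw [Module.length_eq_add_of_exact L.subtype L.mkQ L.injective_subtype (Submodule.mkQ_surjective L)
        (LinearMap.exact_subtype_mkQ L), Module.length_eq_one]
      have hq : Module.finrank k (V ⧸ L) + 1 = n := by
        have h1 := (L.restrictScalars k).finrank_quotient_add_finrank
        rw [hLk, finrank_span_singleton hv, hn] at h1
        rw [← h1, ← hLk]
        rfl
      rw [ih _ (by omega) (V ⧸ L) rfl, ← hq]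
      push_cast
      ring

variable (M N : Type u) [AddCommGroup M] [Module A M] [AddCommGroup N] [Module A N] [Module k N]
  [IsScalarTower k A N]

/-- Reduction of homomorphisms modulo an element. -/
def red (x : A) : (M →ₗ[A] N) →ₗ[A] (M →ₗ[A] N ⧸ LinearMap.range (LinearMap.lsmul A N x)) :=
  LinearMap.llcomp A M N _ (LinearMap.range (LinearMap.lsmul A N x)).mkQ

/-- When `x` is regular on `N` and multiplication by `x` on `M` factors through `A`,
`Ext¹(M, N)` is the cokernel of reduction modulo `x`. -/
theorem ext_equiv (x : A) (hx : ∀ y : N, x • y = 0 → y = 0) (g : M →ₗ[A] A) (h : A →ₗ[A] M)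
    (hgh : h ∘ₗ g = x • LinearMap.id) :
    Nonempty (Ext.{u} (ModuleCat.of A M) (ModuleCat.of A N) 1 ≃ₗ[A]
      (M →ₗ[A] N ⧸ LinearMap.range (LinearMap.lsmul A N x)) ⧸ LinearMap.range (red M N x)) := by
  let S : ShortComplex (ModuleCat.{u} A) :=
    ShortComplex.mk (ModuleCat.ofHom (LinearMap.lsmul A N x))
      (ModuleCat.ofHom (LinearMap.range (LinearMap.lsmul A N x)).mkQ) (by
        ext y
        exact (Submodule.Quotient.mk_eq_zero _).2 ⟨y, rfl⟩)
  have hS : S.ShortExact := by
    refine ShortComplex.ShortExact.mk' ?_ ((ModuleCat.mono_iff_injective _).2 ?_)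
      ((ModuleCat.epi_iff_surjective _).2 (Submodule.mkQ_surjective _))
    · rw [ShortComplex.moduleCat_exact_iff]
      intro a ha
      obtain ⟨y, hy⟩ := (Submodule.Quotient.mk_eq_zero _).1 ha
      exact ⟨y, hy⟩
    · exact (injective_iff_map_eq_zero (LinearMap.lsmul A N x)).2 hx
  have hzero : ∀ ξ : Ext.{u} (ModuleCat.of A M) (ModuleCat.of A N) 1,
      ξ.comp (Ext.mk₀ S.f) (add_zero 1) = 0 := by
    intro ξ
    have hf : S.f = x • 𝟙 (ModuleCat.of A N) := by
      ext y
      rfl
    have h1 : ξ.comp (Ext.mk₀ S.f) (add_zero 1) = x • ξ := by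
      rw [hf, Ext.mk₀_smul]
      exact (Ext.comp_smul ξ (Ext.mk₀ (𝟙 (ModuleCat.of A N))) (add_zero 1) x).trans (by rw [Ext.comp_mk₀_id])
    have h2 : (Ext.mk₀ (x • 𝟙 (ModuleCat.of A M))).comp ξ (zero_add 1) = x • ξ := by
      rw [Ext.mk₀_smul]
      exact (Ext.smul_comp (Ext.mk₀ (𝟙 (ModuleCat.of A M))) ξ (zero_add 1) x).trans (by rw [Ext.mk₀_id_comp])
    have h3 : x • 𝟙 (ModuleCat.of A M) = ModuleCat.ofHom g ≫ ModuleCat.ofHom h := by
      ext y
      exact (LinearMap.congr_fun hgh y).symm
    have : Projective (ModuleCat.of A A) := (IsProjective.iff_projective A).1 inferInstance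
    rw [h1, ← h2, h3, ← Ext.mk₀_comp_mk₀_assoc,
      Ext.eq_zero_of_projective (n := 0) ((Ext.mk₀ (ModuleCat.ofHom h)).comp ξ (zero_add 1)), Ext.comp_zero]
  let δ : (M →ₗ[A] N ⧸ LinearMap.range (LinearMap.lsmul A N x)) →ₗ[A]
      Ext.{u} (ModuleCat.of A M) (ModuleCat.of A N) 1 :=
    { toFun := fun φ => (Ext.mk₀ (X := ModuleCat.of A M) (Y := S.X₃) (ModuleCat.ofHom φ)).comp hS.extClass
          (zero_add 1)
      map_add' := fun φ ψ => by
        rw [ModuleCat.ofHom_add, Ext.mk₀_add, Ext.add_comp]
      map_smul' := fun r φ => by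
        rw [RingHom.id_apply, show ModuleCat.ofHom (r • φ) = r • (ModuleCat.ofHom φ : ModuleCat.of A M ⟶ S.X₃) from rfl,
          Ext.mk₀_smul]
        exact Ext.smul_comp _ hS.extClass (zero_add 1) r }
  have hsurj : Function.Surjective δ := fun ξ => by
    obtain ⟨e, he⟩ := Ext.covariant_sequence_exact₁ _ hS ξ (hzero ξ) (zero_add 1)
    obtain ⟨f, rfl⟩ := (Ext.mk₀_bijective _ _).2 e
    exact ⟨f.hom, he⟩
  have hker : LinearMap.ker δ = LinearMap.range (red M N x) := by
    refine le_antisymm (fun φ hφ => ?_) ?_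
    · obtain ⟨e, he⟩ := Ext.covariant_sequence_exact₃ _ hS
        (Ext.mk₀ (X := ModuleCat.of A M) (Y := S.X₃) (ModuleCat.ofHom φ)) (zero_add 1) hφ
      obtain ⟨f, rfl⟩ := (Ext.mk₀_bijective _ _).2 e
      rw [Ext.mk₀_comp_mk₀] at he
      exact ⟨f.hom, congrArg ModuleCat.Hom.hom ((Ext.mk₀_bijective _ _).1 he)⟩
    · rintro _ ⟨f, rfl⟩
      rw [LinearMap.mem_ker]
      show (Ext.mk₀ (X := ModuleCat.of A M) (Y := S.X₃) (ModuleCat.ofHom f ≫ S.g)).comp hS.extClass (zero_add 1) = 0
      rw [← Ext.mk₀_comp_mk₀, Ext.comp_assoc _ _ _ (zero_add 0) (zero_add 1) (by omega),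
        hS.comp_extClass, Ext.comp_zero]
  exact ⟨(Submodule.quotEquivOfEq _ _ hker).symm.trans (δ.quotKerEquivOfSurjective hsurj) |>.symm⟩

/-- The length of `Ext¹(M, N)` from two dimensions. -/
theorem length_ext (hloc : ∀ a : A, ∃ c : k, ∀ b : A, IsUnit (1 - b * (a - algebraMap k A c)))
    (x : A) (hx : ∀ y : N, x • y = 0 → y = 0) (g : M →ₗ[A] A) (h : A →ₗ[A] M)
    (hgh : h ∘ₗ g = x • LinearMap.id) (a b : ℕ)
    [FiniteDimensional k (M →ₗ[A] N ⧸ LinearMap.range (LinearMap.lsmul A N x))]
    (ha : Module.finrank k (M →ₗ[A] N ⧸ LinearMap.range (LinearMap.lsmul A N x)) = a)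
    (hb : Module.finrank k ↥((LinearMap.range (red M N x)).restrictScalars k) = b) :
    Module.length A (Ext.{u} (ModuleCat.of A M) (ModuleCat.of A N) 1) = ((a - b : ℕ) : ℕ∞) := by
  obtain ⟨e⟩ := ext_equiv M N x hx g h hgh
  rw [e.length_eq]
  refine length_eq_finrank hloc _ _ ?_
  have h1 := ((LinearMap.range (red M N x)).restrictScalars k).finrank_quotient_add_finrank
  rw [ha, hb] at h1
  have h2 : Module.finrank k ((M →ₗ[A] N ⧸ LinearMap.range (LinearMap.lsmul A N x)) ⧸
      (LinearMap.range (red M N x)).restrictScalars k) = a - b := by omega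
  exact h2

/-- A submodule stable under an injective map has quotient of the same dimension as the ambient one. -/
theorem finrank_quot_map {W : Type u} [AddCommGroup W] [Module k W] (x : W →ₗ[k] W)
    (hx : Function.Injective x) (U P : Submodule k W) (hUP : U ≤ P) (hxP : P.map x ≤ P)
    [FiniteDimensional k (W ⧸ U)] [FiniteDimensional k (W ⧸ LinearMap.range x)] :
    Module.finrank k (↥P ⧸ (P.map x).comap P.subtype) = Module.finrank k (W ⧸ LinearMap.range x) := by
  let Q0 := W ⧸ U.map x
  let xb : (W ⧸ U) →ₗ[k] Q0 := U.mapQ (U.map x) x (fun u hu => Submodule.mem_map_of_mem hu)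
  let pr : Q0 →ₗ[k] W ⧸ LinearMap.range x := Submodule.factor (LinearMap.map_le_range)
  have hxb : Function.Injective xb := by
    refine (injective_iff_map_eq_zero xb).2 fun z hz => ?_
    obtain ⟨w, rfl⟩ := Submodule.Quotient.mk_surjective U z
    obtain ⟨u, hu, he⟩ := (Submodule.Quotient.mk_eq_zero _).1 hz
    exact (Submodule.Quotient.mk_eq_zero _).2 (hx he ▸ hu)
  have hker : LinearMap.ker pr = LinearMap.range xb := by
    refine le_antisymm (fun z hz => ?_) ?_
    · obtain ⟨w, rfl⟩ := Submodule.Quotient.mk_surjective _ z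
      obtain ⟨w', rfl⟩ := (Submodule.Quotient.mk_eq_zero _).1 hz
      exact ⟨Submodule.Quotient.mk w', rfl⟩
    · rintro _ ⟨z, rfl⟩
      obtain ⟨w, rfl⟩ := Submodule.Quotient.mk_surjective U z
      exact (Submodule.Quotient.mk_eq_zero _).2 ⟨w, rfl⟩
  have : FiniteDimensional k ↥(LinearMap.ker pr) := hker ▸ inferInstance
  have : Module.Finite k (Q0 ⧸ LinearMap.ker pr) :=
    Module.Finite.equiv (pr.quotKerEquivOfSurjective (Submodule.factor_surjective _)).symm
  have : FiniteDimensional k Q0 := Module.Finite.of_submodule_quotient (LinearMap.ker pr)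
  have hQ0 : Module.finrank k Q0 = Module.finrank k (W ⧸ U) + Module.finrank k (W ⧸ LinearMap.range x) := by
    have h1 := pr.finrank_range_add_finrank_ker
    rw [hker, LinearMap.range_eq_top.2 (Submodule.factor_surjective _), finrank_top,
      LinearMap.finrank_range_of_inj hxb] at h1
    omega
  let pP : Q0 →ₗ[k] W ⧸ P := Submodule.factor ((Submodule.map_mono hUP).trans hxP)
  let pU : (W ⧸ U) →ₗ[k] W ⧸ P := Submodule.factor hUP
  have hP1 := pP.finrank_range_add_finrank_ker
  have hP2 := pU.finrank_range_add_finrank_ker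
  rw [LinearMap.range_eq_top.2 (Submodule.factor_surjective _), finrank_top] at hP1 hP2
  let q : ↥P →ₗ[k] ↥(LinearMap.ker pP) := LinearMap.codRestrict _ ((U.map x).mkQ ∘ₗ P.subtype) fun p =>
    LinearMap.mem_ker.2 ((Submodule.Quotient.mk_eq_zero _).2 p.2)
  have hq : Function.Surjective q := by
    rintro ⟨z, hz⟩
    obtain ⟨w, rfl⟩ := Submodule.Quotient.mk_surjective _ z
    exact ⟨⟨w, (Submodule.Quotient.mk_eq_zero _).1 hz⟩, rfl⟩
  let xU : ↥(LinearMap.ker pU) →ₗ[k] ↥(LinearMap.ker pP) :=
    LinearMap.codRestrict _ (xb ∘ₗ (LinearMap.ker pU).subtype) fun z => by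
      obtain ⟨w, hw⟩ := Submodule.Quotient.mk_surjective U z.1
      have hwP : w ∈ P := (Submodule.Quotient.mk_eq_zero _).1 (by
        have := z.2
        rw [← hw] at this
        exact this)
      show xb z.1 ∈ LinearMap.ker pP
      rw [← hw]
      exact (Submodule.Quotient.mk_eq_zero _).2 (hxP (Submodule.mem_map_of_mem hwP))
  have hxU : Function.Injective xU := fun a b e => Subtype.ext (hxb (congrArg Subtype.val e))
  let q2 : ↥P →ₗ[k] ↥(LinearMap.ker pP) ⧸ LinearMap.range xU := (LinearMap.range xU).mkQ ∘ₗ q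
  have hq2 : LinearMap.ker q2 = (P.map x).comap P.subtype := by
    refine le_antisymm (fun p hp => ?_) ?_
    · obtain ⟨z, hz⟩ := (Submodule.Quotient.mk_eq_zero _).1 hp
      obtain ⟨w, hw⟩ := Submodule.Quotient.mk_surjective U z.1
      have hwP : w ∈ P := (Submodule.Quotient.mk_eq_zero _).1 (by
        have := z.2
        rw [← hw] at this
        exact this)
      have hz' : xb z.1 = Submodule.Quotient.mk (p : W) := congrArg Subtype.val hz
      rw [← hw] at hz'
      obtain ⟨u, hu, he⟩ := (Submodule.Quotient.eq (U.map x)).1 hz'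
      refine ⟨w - u, sub_mem hwP (hUP hu), ?_⟩
      rw [map_sub, he]
      simp
    · rintro p ⟨w, hwP, he⟩
      refine (Submodule.Quotient.mk_eq_zero _).2 ⟨⟨Submodule.Quotient.mk w,
        (Submodule.Quotient.mk_eq_zero _).2 hwP⟩, Subtype.ext ?_⟩
      show Submodule.Quotient.mk (x w) = Submodule.Quotient.mk (p : W)
      rw [he]
      rfl
  have e1 := (q2.quotKerEquivOfSurjective ((Submodule.mkQ_surjective _).comp hq)).finrank_eq
  rw [hq2] at e1
  have e2 := (LinearMap.range xU).finrank_quotient_add_finrank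
  rw [LinearMap.finrank_range_of_inj hxU] at e2
  omega

theorem finrank_of_surjective {V W : Type u} [AddCommGroup V] [Module k V] [AddCommGroup W] [Module k W]
    (θ : V →ₗ[k] W) (h : Function.Surjective θ) :
    Module.finrank k W = Module.finrank k (V ⧸ LinearMap.ker θ) :=
  (θ.quotKerEquivOfSurjective h).finrank_eq.symm

end Groth.Agent.TFExt45.Base
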