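import Groth.Agent.Lib.TFExt45.Base
import Mathlib.Algebra.Algebra.Subalgebra.Basic

/-!
# Homomorphisms modulo a regular element in coordinates
-/

set_option autoImplicit false

noncomputable section

namespace Groth.Agent.TFExt45.Coord

universe u

variable {k : Type u} [Field k] {A : Type u} [CommRing A] [Algebra k A]
  {M N : Type u} [AddCommGroup M] [Module A M] [Module k M] [IsScalarTower k A M]
  [AddCommGroup N] [Module A N] [Module k N] [IsScalarTower k A N]
  {P R : Type} {G : Type}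

/-- The compatible maps between coordinate spaces. -/
def Sol (TM : G → (P → k) →ₗ[k] (P → k)) (TN : G → (R → k) →ₗ[k] (R → k)) :
    Submodule k ((P → k) →ₗ[k] (R → k)) where
  carrier := {Φ | ∀ g, Φ ∘ₗ TM g = TN g ∘ₗ Φ}
  zero_mem' := fun g => by rw [LinearMap.zero_comp, LinearMap.comp_zero]
  add_mem' := fun {a b} ha hb g => by rw [LinearMap.add_comp, LinearMap.comp_add, ha g, hb g]
  smul_mem' := fun c a ha g => by rw [LinearMap.smul_comp, LinearMap.comp_smul, ha g]

/-- Homomorphisms into the reduction in coordinates. -/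
theorem hom_equiv (x : A) (πM : M →ₗ[k] P → k) (hπM : Function.Surjective πM)
    (hkM : ∀ m, πM m = 0 ↔ ∃ m', m = x • m') (πN : N →ₗ[k] R → k) (hπN : Function.Surjective πN)
    (hkN : ∀ n, πN n = 0 ↔ ∃ n', n = x • n') (γ : G → A) (TM : G → (P → k) →ₗ[k] (P → k))
    (TN : G → (R → k) →ₗ[k] (R → k)) (hTM : ∀ g m, πM (γ g • m) = TM g (πM m))
    (hTN : ∀ g n, πN (γ g • n) = TN g (πN n))
    (hA : ∀ a : A, ∃ b ∈ Algebra.adjoin k (Set.range γ),
      (∀ m : M, πM ((a - b) • m) = 0) ∧ ∀ n : N, πN ((a - b) • n) = 0) :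
    ∃ e : (M →ₗ[A] N ⧸ LinearMap.range (LinearMap.lsmul A N x)) ≃ₗ[k] ↥(Sol TM TN),
      ∀ (f : M →ₗ[A] N) (m : M),
        (e (Groth.Agent.TFExt45.Base.red M N x f) : (P → k) →ₗ[k] (R → k)) (πM m) = πN (f m) := by
  obtain ⟨s, hs⟩ := πM.exists_rightInverse_of_surjective (LinearMap.range_eq_top.2 hπM)
  obtain ⟨t, ht⟩ := πN.exists_rightInverse_of_surjective (LinearMap.range_eq_top.2 hπN)
  have hs' : ∀ v, πM (s v) = v := fun v => LinearMap.congr_fun hs v
  have ht' : ∀ v, πN (t v) = v := fun v => LinearMap.congr_fun ht v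
  set Xn := LinearMap.range (LinearMap.lsmul A N x)
  have hXn : ∀ n, n ∈ Xn ↔ πN n = 0 := fun n => by
    rw [hkN]
    exact ⟨fun ⟨y, hy⟩ => ⟨y, hy.symm⟩, fun ⟨y, hy⟩ => ⟨y, hy.symm⟩⟩
  let qN : (N ⧸ Xn) →ₗ[k] R → k := (Xn.restrictScalars k).liftQ πN fun n hn => (hXn n).1 hn
  have qN_mk : ∀ n, qN (Submodule.Quotient.mk n) = πN n := fun n => rfl
  have qN_inj : Function.Injective qN := by
    refine (injective_iff_map_eq_zero qN).2 fun z hz => ?_
    obtain ⟨n, rfl⟩ := Submodule.Quotient.mk_surjective Xn z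
    exact (Submodule.Quotient.mk_eq_zero _).2 ((hXn n).2 hz)
  have hxQ : ∀ z : N ⧸ Xn, x • z = 0 := fun z => by
    obtain ⟨n, rfl⟩ := Submodule.Quotient.mk_surjective Xn z
    rw [← Submodule.Quotient.mk_smul]
    exact (Submodule.Quotient.mk_eq_zero _).2 ⟨n, rfl⟩
  have key : ∀ (φ : M →ₗ[A] N ⧸ Xn) (m : M), qN (φ (s (πM m))) = qN (φ m) := by
    intro φ m
    obtain ⟨m', hm'⟩ := (hkM (s (πM m) - m)).1 (by rw [map_sub, hs', sub_self])
    refine sub_eq_zero.1 ?_
    rw [← map_sub, ← map_sub, hm', map_smul φ, hxQ, map_zero]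
  let fwd : (M →ₗ[A] N ⧸ Xn) →ₗ[k] ((P → k) →ₗ[k] (R → k)) :=
    { toFun := fun φ => qN ∘ₗ φ.restrictScalars k ∘ₗ s
      map_add' := fun φ ψ => LinearMap.ext fun v => map_add qN (φ (s v)) (ψ (s v))
      map_smul' := fun c φ => LinearMap.ext fun v => map_smul qN c (φ (s v)) }
  have hTN' : ∀ (g : G) (z : N ⧸ Xn), qN (γ g • z) = TN g (qN z) := fun g z => by
    obtain ⟨n, rfl⟩ := Submodule.Quotient.mk_surjective Xn z
    rw [← Submodule.Quotient.mk_smul, qN_mk, qN_mk, hTN]
  have hfwd : ∀ φ, fwd φ ∈ Sol TM TN := by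
    intro φ g
    refine LinearMap.ext fun v => ?_
    show qN (φ (s (TM g v))) = TN g (qN (φ (s v)))
    conv_lhs => rw [← hs' v, ← hTM, key, map_smul φ]
    exact hTN' g _
  let e0 := LinearMap.codRestrict (Sol TM TN) fwd hfwd
  have hinj : Function.Injective e0 := by
    refine (injective_iff_map_eq_zero e0).2 fun φ hφ => LinearMap.ext fun m => qN_inj ?_
    rw [← key, LinearMap.zero_apply, map_zero]
    exact LinearMap.congr_fun (congrArg Subtype.val hφ) (πM m)
  have hsurj : Function.Surjective e0 := by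
    rintro ⟨Φ, hΦ⟩
    let φk : M →ₗ[k] N ⧸ Xn :=
      ((Xn.restrictScalars k).mkQ ∘ₗ t) ∘ₗ Φ ∘ₗ πM
    have hqφ : ∀ m, qN (φk m) = Φ (πM m) := fun m => (qN_mk _).trans (ht' _)
    let C : Subalgebra k A :=
      { carrier := {a : A | ∀ m : M, φk (a • m) = a • φk m}
        mul_mem' := fun {a b} ha hb m => by rw [mul_smul, ha, hb, mul_smul]
        add_mem' := fun {a b} ha hb m => by rw [add_smul, map_add, ha, hb, add_smul]
        algebraMap_mem' := fun c m => by rw [algebraMap_smul, algebraMap_smul, map_smul] }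
    have hgen : Algebra.adjoin k (Set.range γ) ≤ C := by
      refine Algebra.adjoin_le ?_
      rintro _ ⟨g, rfl⟩ m
      refine qN_inj ?_
      rw [hqφ, hTM, hTN', hqφ]
      exact LinearMap.congr_fun (hΦ g) (πM m)
    have hlin : ∀ (a : A) (m : M), φk (a • m) = a • φk m := by
      intro a m
      obtain ⟨b, hb, hbM, hbN⟩ := hA a
      have h1 : φk ((a - b) • m) = 0 := qN_inj (by rw [hqφ, hbM, map_zero, map_zero])
      have h2 : ∀ z : N ⧸ Xn, (a - b) • z = 0 := fun z => by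
        obtain ⟨n, rfl⟩ := Submodule.Quotient.mk_surjective Xn z
        rw [← Submodule.Quotient.mk_smul]
        exact (Submodule.Quotient.mk_eq_zero _).2 ((hXn _).2 (hbN n))
      rw [show a = (a - b) + b by ring, add_smul, add_smul, map_add, h1, h2, hgen hb m]
    refine ⟨{ toFun := φk, map_add' := map_add φk, map_smul' := hlin }, Subtype.ext (LinearMap.ext fun v => ?_)⟩
    show qN (φk (s v)) = Φ v
    rw [hqφ, hs']
  refine ⟨LinearEquiv.ofBijective e0 ⟨hinj, hsurj⟩, fun f m => ?_⟩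
  exact key (Groth.Agent.TFExt45.Base.red M N x f) m

end Groth.Agent.TFExt45.Coord
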