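import Groth.Agent.Lib.TFExt45.Mono

/-!
# Counting solutions of the combinatorial systems
-/

set_option autoImplicit false

noncomputable section

namespace Groth.Agent.TFExt45.Count

open PowerSeries Groth.Agent.TFExt45.Mono

universe u

variable {k : Type u} [Field k]

/-- A solution space parametrised by free entries. -/
theorem finrank_sol (Γ Δ Δ' : Set ℕ) (d : ℕ) (F : Finset (ℕ × ℕ)) (L : ℕ × ℕ → Option (ℕ × ℕ))
    (hF : ∀ f ∈ F, f.1 ∈ DS Δ d ∧ f.2 ∈ DS Δ' d ∧ L f = some f)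
    (hL : ∀ x f, x.1 ∈ DS Δ d → x.2 ∈ DS Δ' d → L x = some f → f ∈ F)
    (hnec : ∀ U ∈ SolN k Γ Δ Δ' d, ∀ p ∈ DS Δ d, ∀ r ∈ DS Δ' d,
      U p r = (L (p, r)).elim 0 fun f => U f.1 f.2)
    (hsuf : ∀ γ ∈ Γ, ∀ p ∈ DS Δ d, ∀ r ∈ DS Δ' d,
      (p + γ ∈ DS Δ d → γ ≤ r → r - γ ∈ DS Δ' d → L (p + γ, r) = L (p, r - γ)) ∧
      (p + γ ∈ DS Δ d → ¬ (γ ≤ r ∧ r - γ ∈ DS Δ' d) → L (p + γ, r) = none) ∧
      (p + γ ∉ DS Δ d → γ ≤ r → r - γ ∈ DS Δ' d → L (p, r - γ) = none)) :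
    Module.finrank k ↥(SolN k Γ Δ Δ' d) = F.card := by
  classical
  let res : ↥(SolN k Γ Δ Δ' d) →ₗ[k] (↥F → k) :=
    { toFun := fun U f => (U : ℕ → ℕ → k) f.1.1 f.1.2
      map_add' := fun _ _ => rfl
      map_smul' := fun _ _ => rfl }
  have hbij : Function.Bijective res := by
    refine ⟨fun U V h => Subtype.ext (funext fun p => funext fun r => ?_), fun w => ?_⟩
    · by_cases hx : p ∈ DS Δ d ∧ r ∈ DS Δ' d
      · rw [hnec U U.2 p hx.1 r hx.2, hnec V V.2 p hx.1 r hx.2]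
        match hLx : L (p, r) with
        | none => rfl
        | some f => exact congrFun h ⟨f, hL (p, r) f hx.1 hx.2 hLx⟩
      · rw [U.2.1 p r hx, V.2.1 p r hx]
    · let W : ℕ × ℕ → k := fun f => if h : f ∈ F then w ⟨f, h⟩ else 0
      let U : ℕ → ℕ → k := fun p r => if p ∈ DS Δ d ∧ r ∈ DS Δ' d then (L (p, r)).elim 0 W else 0
      refine ⟨⟨U, fun p r h => if_neg h, fun γ hγ p hp r hr => ?_⟩, funext fun f => ?_⟩
      · obtain ⟨h1, h2, h3⟩ := hsuf γ hγ p hp r hr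
        simp only [U]
        by_cases a : p + γ ∈ DS Δ d
        · rw [if_pos ⟨a, hr⟩]
          by_cases b : γ ≤ r ∧ r - γ ∈ DS Δ' d
          · rw [if_pos b.1, if_pos ⟨hp, b.2⟩, h1 a b.1 b.2]
          · rw [h2 a b]
            by_cases c : γ ≤ r
            · rw [if_pos c, if_neg fun e => b ⟨c, e.2⟩]
              rfl
            · rw [if_neg c]
              rfl
        · rw [if_neg fun e => a e.1]
          by_cases c : γ ≤ r
          · rw [if_pos c]
            by_cases e : r - γ ∈ DS Δ' d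
            · rw [if_pos ⟨hp, e⟩, h3 a c e]
              rfl
            · rw [if_neg fun e' => e e'.2]
          · rw [if_neg c]
      · obtain ⟨⟨a, b⟩, hab⟩ := f
        obtain ⟨h1, h2, h3⟩ := hF _ hab
        show U a b = w ⟨(a, b), hab⟩
        simp only [U]
        rw [if_pos ⟨h1, h2⟩, h3]
        exact dif_pos hab
  rw [(LinearEquiv.ofBijective res hbij).finrank_eq, Module.finrank_pi, Fintype.card_coe]

variable {A : Subalgebra k k⟦X⟧} {Γ : Set ℕ}

/-- The monomial module spanned by some monomials. -/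
def spanMod (hA : MonAlg A Γ) (G : Set k⟦X⟧) (S : Finset ℕ) (hG : G = (fun a : ℕ => (X : k⟦X⟧) ^ a) '' ↑S)
    (Δ : Set ℕ) (hS : ↑S ⊆ Δ) (hΔ : ∀ γ ∈ Γ, ∀ δ ∈ Δ, γ + δ ∈ Δ)
    (hcov : ∀ δ ∈ Δ, ∃ a ∈ S, a ≤ δ ∧ δ - a ∈ Γ) (h0 : 0 ∈ Δ) (C : ℕ) (hC : ∀ n, C ≤ n → n ∈ Δ) :
    MonMod A Γ ↥(Submodule.span ↥A G) where
  Δ := Δ
  ι := (Submodule.span ↥A G).subtype
  inj := (Submodule.span ↥A G).injective_subtype
  range f := by
    rw [Submodule.range_subtype, hG]
    exact span_eq hA S Δ hS hΔ hcov f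
  zero := h0
  C := C
  full := hC
  add := hΔ

/-- The normalisation as a monomial module. -/
def fullMod (hA : MonAlg A Γ) : MonMod A Γ k⟦X⟧ where
  Δ := Set.univ
  ι := LinearMap.id
  inj := Function.injective_id
  range f := by
    simp only [LinearMap.range_id, Submodule.mem_top, true_iff]
    exact fun n _ => Set.mem_univ n
  zero := Set.mem_univ 0
  C := 0
  full n _ := Set.mem_univ n
  add _ _ _ _ := Set.mem_univ _

end Groth.Agent.TFExt45.Count
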