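import Groth.Agent.Lib.TFExt45.Count

/-!
# Monomial modules over the cubical singularity
-/

set_option autoImplicit false

noncomputable section

namespace Groth.Agent.TFExt45.Cubical

open PowerSeries Groth.Agent.TFExt45.Mono Groth.Agent.TFExt45.Count

universe u

variable {k : Type u} [Field k]

/-- The cubical semigroup. -/
def cub (n : ℕ) : Set ℕ := {m | m = 0 ∨ n ≤ m}

theorem DS_low (n i m : ℕ) (hi : i + 1 ≤ n) :
    m ∈ DS {x | x ≤ i ∨ n ≤ x} n ↔ m ≤ i ∨ (n + i < m ∧ m < 2 * n) := by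
  simp only [DS, Set.mem_ofPred_eq]
  omega

theorem DS_high (n i m : ℕ) (hi : i + 2 ≤ n) :
    m ∈ DS {x | x = 0 ∨ n - i ≤ x} n ↔ m = 0 ∨ (n - i ≤ m ∧ m < n) ∨ (n < m ∧ m < 2 * n - i) := by
  simp only [DS, Set.mem_ofPred_eq]
  omega

theorem sol_low (n i : ℕ) (hi : i + 2 ≤ n) :
    Module.finrank k ↥(SolN k (cub n) {x | x ≤ i ∨ n ≤ x} {x | x ≤ i ∨ n ≤ x} n) =
      1 + (i + 1) * (n - i - 1) := by
  classical
  set Δ : Set ℕ := {x | x ≤ i ∨ n ≤ x}
  have hD : ∀ m, m ∈ DS Δ n ↔ m ≤ i ∨ (n + i < m ∧ m < 2 * n) := fun m => DS_low n i m (by omega)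
  let F : Finset (ℕ × ℕ) := insert (0, 0) (Finset.range (i + 1) ×ˢ Finset.Ioo (n + i) (2 * n))
  let L : ℕ × ℕ → Option (ℕ × ℕ) := fun x =>
    if x.1 = x.2 then some (0, 0) else if x.1 ≤ i ∧ i < x.2 then some x else none
  have hF : ∀ f, f ∈ F ↔ f = (0, 0) ∨ (f.1 ≤ i ∧ n + i < f.2 ∧ f.2 < 2 * n) := fun f => by
    simp [F]
  rw [finrank_sol (cub n) Δ Δ n F L]
  · rw [Finset.card_insert_of_notMem (by simp), Finset.card_product, Finset.card_range, Nat.card_Ioo,
      show 2 * n - (n + i) - 1 = n - i - 1 by omega, add_comm]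
  · intro f hf
    rcases (hF f).1 hf with rfl | ⟨h1, h2, h3⟩
    · exact ⟨(hD 0).2 (by omega), (hD 0).2 (by omega), rfl⟩
    · refine ⟨(hD _).2 (by omega), (hD _).2 (by omega), ?_⟩
      simp only [L]
      rw [if_neg (by omega), if_pos ⟨h1, by omega⟩]
  · intro x f h1 h2 hx
    rw [hD] at h1 h2
    simp only [L] at hx
    split at hx
    · cases hx; exact (hF _).2 (Or.inl rfl)
    · split at hx
      · cases hx; exact (hF _).2 (Or.inr ⟨by omega, by omega, by omega⟩)
      · simp at hx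
  · intro U hU p hp r hr
    have eq : ∀ γ, n ≤ γ → ∀ a, a ∈ DS Δ n → ∀ b, b ∈ DS Δ n →
        U (a + γ) b = if γ ≤ b then U a (b - γ) else 0 :=
      fun γ hγ a ha b hb => hU.2 γ (Or.inr hγ) a ha b hb
    have zero : ∀ a b, ¬ (a ∈ DS Δ n ∧ b ∈ DS Δ n) → U a b = 0 := hU.1
    have low0 : ∀ b b', b ≤ i → b' ≤ i → b ≠ b' → U b b' = 0 := by
      intro b b' hb hb' hne
      rcases Nat.lt_or_gt_of_ne hne with h | h
      · have h1 := eq (n + i + 1 - b') (by omega) b ((hD _).2 (by omega)) (n + i + 1) ((hD _).2 (by omega))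
        rw [zero _ _ (fun h => by rw [hD, hD] at h; omega), if_pos (by omega),
          show n + i + 1 - (n + i + 1 - b') = b' by omega] at h1
        exact h1.symm
      · have h1 := eq (2 * n - 1 - b') (by omega) b ((hD _).2 (by omega)) (2 * n - 1) ((hD _).2 (by omega))
        rw [zero _ _ (fun h => by rw [hD, hD] at h; omega), if_pos (by omega),
          show 2 * n - 1 - (2 * n - 1 - b') = b' by omega] at h1
        exact h1.symm
    have diag : ∀ b, b ≤ i → U b b = U 0 0 := by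
      intro b hb
      have h1 := eq (n + i + 1 - b) (by omega) b ((hD _).2 (by omega)) (n + i + 1) ((hD _).2 (by omega))
      have h2 := eq (n + i + 1) (by omega) 0 ((hD _).2 (by omega)) (n + i + 1) ((hD _).2 (by omega))
      rw [if_pos (by omega), show b + (n + i + 1 - b) = n + i + 1 by omega,
        show n + i + 1 - (n + i + 1 - b) = b by omega] at h1
      rw [if_pos le_rfl, Nat.sub_self, Nat.zero_add] at h2
      rw [← h1, h2]
    rw [hD] at hp hr
    simp only [L]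
    rcases hp with hp | hp
    · by_cases e : p = r
      · subst e
        rw [if_pos rfl]
        exact diag p hp
      · rw [if_neg e]
        by_cases hri : i < r
        · rw [if_pos ⟨hp, hri⟩]
          rfl
        · rw [if_neg (fun h => hri h.2)]
          exact low0 p r hp (by omega) e
    · have h1 := eq p (by omega) 0 ((hD _).2 (by omega)) r ((hD _).2 hr)
      rw [Nat.zero_add] at h1
      rw [h1]
      by_cases e : p = r
      · subst e
        rw [if_pos le_rfl, if_pos rfl, Nat.sub_self]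
        rfl
      · rw [if_neg e, if_neg (fun (h : p ≤ i ∧ i < r) => by omega)]
        split
        next hle =>
          by_cases hm : r - p ∈ DS Δ n
          · rw [hD] at hm
            exact low0 0 (r - p) (by omega) (by omega) (by omega)
          · exact zero _ _ fun h => hm h.2
        next => rfl
  · intro γ hγ p hp r hr
    simp only [hD] at hp hr ⊢
    simp only [cub, Set.mem_ofPred_eq] at hγ
    rcases hγ with rfl | hγ
    · simp only [Nat.add_zero, Nat.sub_zero]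
      exact ⟨fun _ _ _ => trivial, fun _ h => absurd ⟨Nat.zero_le r, hr⟩ h, fun h => absurd hp h⟩
    · refine ⟨fun h1 h2 h3 => ?_, fun h1 h2 => ?_, fun h1 h2 h3 => ?_⟩ <;> simp only [L] <;>
        split_ifs <;> first | rfl | omega | (simp only [Option.some.injEq, Prod.mk.injEq]; omega)

theorem sol_high (n i : ℕ) (hi : i + 2 ≤ n) :
    Module.finrank k ↥(SolN k (cub n) {x | x = 0 ∨ n - i ≤ x} {x | x = 0 ∨ n - i ≤ x} n) =
      n + i * (n - 1) := by
  classical
  set Δ : Set ℕ := {x | x = 0 ∨ n - i ≤ x}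
  have hD : ∀ m, m ∈ DS Δ n ↔ m = 0 ∨ (n - i ≤ m ∧ m < n) ∨ (n < m ∧ m < 2 * n - i) := fun m =>
    DS_high n i m hi
  let D' : Finset ℕ := Finset.Ico (n - i) n ∪ Finset.Ioo n (2 * n - i)
  let F : Finset (ℕ × ℕ) := ({0} ×ˢ insert 0 D') ∪ (Finset.Ico (n - i) n ×ˢ D')
  let L : ℕ × ℕ → Option (ℕ × ℕ) := fun x =>
    if x.1 = 0 then some x else if x.1 < n ∧ x.2 ≠ 0 then some x
      else if n ≤ x.1 ∧ x.1 = x.2 then some (0, 0) else none
  have hF : ∀ f, f ∈ F ↔ (f.1 = 0 ∧ (f.2 = 0 ∨ (n - i ≤ f.2 ∧ f.2 < n) ∨ (n < f.2 ∧ f.2 < 2 * n - i))) ∨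
      ((n - i ≤ f.1 ∧ f.1 < n) ∧ ((n - i ≤ f.2 ∧ f.2 < n) ∨ (n < f.2 ∧ f.2 < 2 * n - i))) := fun f => by
    simp only [F, D', Finset.mem_union, Finset.mem_product, Finset.mem_singleton, Finset.mem_insert,
      Finset.mem_Ico, Finset.mem_Ioo]
  rw [finrank_sol (cub n) Δ Δ n F L]
  · have h1 : Disjoint (Finset.Ico (n - i) n) (Finset.Ioo n (2 * n - i)) :=
      Finset.disjoint_left.2 fun a ha hb => by simp at ha hb; omega
    have h2 : Disjoint (({0} : Finset ℕ) ×ˢ insert 0 D') (Finset.Ico (n - i) n ×ˢ D') :=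
      Finset.disjoint_left.2 fun a ha hb => by
        simp only [Finset.mem_product, Finset.mem_singleton, Finset.mem_Ico] at ha hb
        omega
    have hcard : D'.card = n - 1 := by
      rw [Finset.card_union_of_disjoint h1, Nat.card_Ico, Nat.card_Ioo]
      omega
    rw [Finset.card_union_of_disjoint h2, Finset.card_product, Finset.card_product, Finset.card_singleton,
      Finset.card_insert_of_notMem (by simp [D']; omega), hcard, Nat.card_Ico,
      show n - (n - i) = i by omega]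
    omega
  · intro f hf
    have := (hF f).1 hf
    refine ⟨(hD _).2 (by omega), (hD _).2 (by omega), ?_⟩
    simp only [L]
    split_ifs <;> first | rfl | omega | (simp only [Option.some.injEq, Prod.mk.injEq]; omega)
  · intro x f h1 h2 hx
    rw [hD] at h1 h2
    simp only [L] at hx
    split_ifs at hx <;> cases hx <;> rw [hF] <;> (try dsimp only) <;> omega
  · intro U hU p hp r hr
    have eq : ∀ γ, n ≤ γ → ∀ a, a ∈ DS Δ n → ∀ b, b ∈ DS Δ n →
        U (a + γ) b = if γ ≤ b then U a (b - γ) else 0 :=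
      fun γ hγ a ha b hb => hU.2 γ (Or.inr hγ) a ha b hb
    have zero : ∀ a b, ¬ (a ∈ DS Δ n ∧ b ∈ DS Δ n) → U a b = 0 := hU.1
    rw [hD] at hp hr
    simp only [L]
    rcases hp with hp | hp | hp
    · rw [if_pos hp]
      rfl
    · rw [if_neg (by omega)]
      by_cases hr0 : r = 0
      · rw [if_neg (fun h => h.2 hr0), if_neg (fun (h : n ≤ p ∧ p = r) => by omega)]
        have h1 := eq (n + 1) (by omega) p ((hD _).2 (by omega)) (n + 1) ((hD _).2 (by omega))
        rw [zero _ _ (fun h => by rw [hD] at h; omega), if_pos le_rfl, Nat.sub_self] at h1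
        rw [hr0]
        exact h1.symm
      · rw [if_pos ⟨hp.2, hr0⟩]
        rfl
    · rw [if_neg (by omega), if_neg (fun (h : p < n ∧ r ≠ 0) => by omega)]
      have h1 := eq p (by omega) 0 ((hD _).2 (by omega)) r ((hD _).2 hr)
      rw [Nat.zero_add] at h1
      rw [h1]
      by_cases e : p = r
      · subst e
        rw [if_pos le_rfl, if_pos ⟨by omega, rfl⟩, Nat.sub_self]
        rfl
      · rw [if_neg (show ¬ (n ≤ p ∧ p = r) from fun h => e h.2)]
        split
        · exact zero _ _ fun h => by simp only [hD] at h; omega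
        · rfl
  · intro γ hγ p hp r hr
    simp only [hD] at hp hr ⊢
    simp only [cub, Set.mem_ofPred_eq] at hγ
    rcases hγ with rfl | hγ
    · simp only [Nat.add_zero, Nat.sub_zero]
      exact ⟨fun _ _ _ => trivial, fun _ h => absurd ⟨Nat.zero_le r, hr⟩ h, fun h => absurd hp h⟩
    · refine ⟨fun h1 h2 h3 => ?_, fun h1 h2 => ?_, fun h1 h2 h3 => ?_⟩ <;> simp only [L] <;>
        split_ifs <;> first | rfl | omega | (simp only [Option.some.injEq, Prod.mk.injEq]; omega)

theorem sol_full (n : ℕ) : Module.finrank k ↥(SolN k (cub n) Set.univ Set.univ n) = n * n := by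
  classical
  have hD : ∀ m, m ∈ DS (Set.univ : Set ℕ) n ↔ m < n := fun m => by simp [DS]
  rw [finrank_sol (cub n) Set.univ Set.univ n (Finset.range n ×ˢ Finset.range n) some]
  · simp
  · intro f hf
    simp at hf
    exact ⟨(hD _).2 hf.1, (hD _).2 hf.2, rfl⟩
  · intro x f h1 h2 hx
    cases hx
    simp [(hD _).1 h1, (hD _).1 h2]
  · exact fun U _ p _ r _ => rfl
  · intro γ hγ p hp r hr
    simp only [hD] at hp hr ⊢
    simp only [cub, Set.mem_ofPred_eq] at hγ
    rcases hγ with rfl | hγ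
    · simp only [Nat.add_zero, Nat.sub_zero]
      exact ⟨fun _ _ _ => trivial, fun _ h => absurd ⟨Nat.zero_le r, hr⟩ h, fun h => absurd hp h⟩
    · exact ⟨fun h => absurd h (by omega), fun h => absurd h (by omega),
        fun _ h => absurd (lt_of_lt_of_le hr hγ) (by omega)⟩

variable {A : Subalgebra k k⟦X⟧} {n : ℕ}

theorem length_low (hA : MonAlg A (cub n)) (i : ℕ) (hi : i + 2 ≤ n) :
    Module.length ↥A (CategoryTheory.Abelian.Ext.{u}
      (ModuleCat.of ↥A ↥(Submodule.span ↥A ((fun a : ℕ => (X : k⟦X⟧) ^ a) '' Set.Iic i)))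
      (ModuleCat.of ↥A ↥(Submodule.span ↥A ((fun a : ℕ => (X : k⟦X⟧) ^ a) '' Set.Iic i))) 1) =
      ((i * (n - 2 - i) : ℕ) : ℕ∞) := by
  let μ := spanMod hA ((fun a : ℕ => (X : k⟦X⟧) ^ a) '' Set.Iic i) (Finset.Iic i) (by rw [Finset.coe_Iic])
    {x | x ≤ i ∨ n ≤ x} (fun a ha => Or.inl (Finset.mem_Iic.1 ha))
    (fun γ hγ δ hδ => by simp only [cub, Set.mem_ofPred_eq] at hγ hδ ⊢; omega)
    (fun δ hδ => by
      simp only [Set.mem_ofPred_eq] at hδ
      by_cases h : δ ≤ i
      · exact ⟨δ, Finset.mem_Iic.2 h, le_rfl, Or.inl (by omega)⟩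
      · exact ⟨0, Finset.mem_Iic.2 (Nat.zero_le _), Nat.zero_le _, Or.inr (by omega)⟩)
    (Or.inl (Nat.zero_le _)) n (fun m hm => Or.inr hm)
  rw [length_mono hA μ μ n n 0 rfl (Or.inr le_rfl) (fun δ _ => Or.inr (Nat.le_add_right _ _))
    (Or.inl (Nat.zero_le _)) _ (sol_low n i hi)]
  congr 2
  obtain ⟨q, rfl⟩ : ∃ q, n = i + 2 + q := ⟨n - i - 2, by omega⟩
  rw [show i + 2 + q - i - 1 = q + 1 by omega, show i + 2 + q - 2 - i = q by omega]
  have : (i + 1) * (q + 1) = i * q + i + q + 1 := by ring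
  omega

theorem length_high (hA : MonAlg A (cub n)) (i : ℕ) (hi : i + 2 ≤ n) :
    Module.length ↥A (CategoryTheory.Abelian.Ext.{u}
      (ModuleCat.of ↥A ↥(Submodule.span ↥A ((fun a : ℕ => (X : k⟦X⟧) ^ a) '' ({0} ∪ Set.Icc (n - i) (n - 1)))))
      (ModuleCat.of ↥A ↥(Submodule.span ↥A ((fun a : ℕ => (X : k⟦X⟧) ^ a) '' ({0} ∪ Set.Icc (n - i) (n - 1))))) 1) =
      ((i * (n - 1) : ℕ) : ℕ∞) := by
  let μ := spanMod hA ((fun a : ℕ => (X : k⟦X⟧) ^ a) '' ({0} ∪ Set.Icc (n - i) (n - 1)))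
    (insert 0 (Finset.Icc (n - i) (n - 1))) (by rw [Finset.coe_insert, Finset.coe_Icc, Set.insert_eq])
    {x | x = 0 ∨ n - i ≤ x}
    (fun a ha => by simp at ha; rcases ha with rfl | ha; exacts [Or.inl rfl, Or.inr (by omega)])
    (fun γ hγ δ hδ => by simp only [cub, Set.mem_ofPred_eq] at hγ hδ ⊢; omega)
    (fun δ hδ => by
      simp only [Set.mem_ofPred_eq] at hδ
      by_cases h : n - i ≤ δ ∧ δ ≤ n - 1
      · exact ⟨δ, by simp [h], le_rfl, Or.inl (by omega)⟩
      · refine ⟨0, by simp, Nat.zero_le _, ?_⟩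
        simp only [cub, Set.mem_ofPred_eq]
        omega)
    (Or.inl rfl) n (fun m hm => Or.inr (by omega))
  rw [length_mono hA μ μ n n 0 rfl (Or.inr le_rfl) (fun δ _ => Or.inr (Nat.le_add_right _ _))
    (Or.inl rfl) _ (sol_high n i hi), Nat.add_sub_cancel_left]

theorem length_full (hA : MonAlg A (cub n)) (hn : 2 ≤ n) :
    Module.length ↥A (CategoryTheory.Abelian.Ext.{u} (ModuleCat.of ↥A k⟦X⟧) (ModuleCat.of ↥A k⟦X⟧) 1) =
      (((n - 1) ^ 2 : ℕ) : ℕ∞) + Module.length ↥A ((k⟦X⟧ →ₗ[↥A] k⟦X⟧) ⧸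
        LinearMap.range (Algebra.lsmul ↥A ↥A k⟦X⟧ : ↥A →ₐ[↥A] Module.End ↥A k⟦X⟧).toLinearMap) := by
  let μ : MonMod A (cub n) k⟦X⟧ := fullMod hA
  rw [length_mono hA μ μ n n 0 rfl (Or.inr le_rfl) (fun δ _ => Or.inr (Nat.le_add_right _ _))
    (Set.mem_univ _) _ (sol_full n)]
  set Q := (k⟦X⟧ →ₗ[↥A] k⟦X⟧) ⧸
    LinearMap.range (Algebra.lsmul ↥A ↥A k⟦X⟧ : ↥A →ₐ[↥A] Module.End ↥A k⟦X⟧).toLinearMap
  have key : ∀ φ : k⟦X⟧ →ₗ[↥A] k⟦X⟧, ∀ f, φ f = φ 1 * f := by
    intro φ f
    have hXn : ∀ g : k⟦X⟧, X ^ n * g ∈ A := fun g => (hA.mem _).2 (mem_monSet.2 fun m hm => by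
      rw [coeff_X_pow_mul', if_neg]
      intro h
      exact hm (Or.inr h))
    let a : ↥A := ⟨X ^ n * f, hXn f⟩
    let b : ↥A := ⟨X ^ n, by simpa using hXn 1⟩
    have h1 : φ (b • f) = φ (a • (1 : k⟦X⟧)) := congrArg φ (by
      show X ^ n * f = X ^ n * f * 1
      rw [mul_one])
    rw [map_smul, map_smul] at h1
    refine mul_left_cancel₀ (pow_ne_zero n (X_ne_zero (R := k))) ?_
    calc X ^ n * φ f = X ^ n * f * φ 1 := h1
      _ = _ := by ring
  let τ : (k⟦X⟧ →ₗ[↥A] k⟦X⟧) →ₗ[k] (Fin (n - 1) → k) :=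
    { toFun := fun φ j => coeff ((j : ℕ) + 1) (φ 1)
      map_add' := fun φ ψ => funext fun j => by simp
      map_smul' := fun c φ => funext fun j => by simp }
  have hτs : Function.Surjective τ := fun v => by
    let w : k⟦X⟧ := PowerSeries.mk fun m => if h : 1 ≤ m ∧ m < n then v ⟨m - 1, by omega⟩ else 0
    refine ⟨{ toFun := fun f => w * f, map_add' := fun f g => mul_add _ _ _,
              map_smul' := fun a f => by
                show w * ((a : k⟦X⟧) * f) = (a : k⟦X⟧) * (w * f)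
                ring }, funext fun j => ?_⟩
    show coeff ((j : ℕ) + 1) (w * 1) = v j
    rw [mul_one, coeff_mk, dif_pos ⟨by omega, by omega⟩]
    congr
  have hτk : LinearMap.ker τ = (LinearMap.range
      (Algebra.lsmul ↥A ↥A k⟦X⟧ : ↥A →ₐ[↥A] Module.End ↥A k⟦X⟧).toLinearMap).restrictScalars k := by
    ext φ
    rw [LinearMap.mem_ker, Submodule.restrictScalars_mem]
    constructor
    · intro h
      have hφ : φ 1 ∈ A := (hA.mem _).2 (mem_monSet.2 fun m hm => by
        simp only [cub, Set.mem_ofPred_eq] at hm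
        have := congrFun h ⟨m - 1, by omega⟩
        simpa [τ, Nat.sub_add_cancel (show 1 ≤ m by omega)] using this)
      refine ⟨⟨φ 1, hφ⟩, LinearMap.ext fun f => ?_⟩
      exact (key φ f).symm
    · rintro ⟨a, rfl⟩
      funext j
      show coeff ((j : ℕ) + 1) ((a : k⟦X⟧) * 1) = 0
      rw [mul_one]
      refine mem_monSet.1 ((hA.mem _).1 a.2) _ ?_
      simp only [cub, Set.mem_ofPred_eq]
      omega
  let e := (Submodule.quotEquivOfEq _ _ hτk.symm).trans (τ.quotKerEquivOfSurjective hτs)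
  haveI : FiniteDimensional k Q := Module.Finite.equiv e.symm
  have hQ : Module.finrank k Q = n - 1 := by
    have := e.finrank_eq
    rw [Module.finrank_pi, Fintype.card_fin] at this
    exact this
  rw [Groth.Agent.TFExt45.Base.length_eq_finrank (hloc hA) (n - 1) Q hQ]
  norm_cast
  obtain ⟨q, rfl⟩ : ∃ q, n = q + 1 := ⟨n - 1, by omega⟩
  rw [Nat.add_sub_cancel]
  have : (q + 1) * (q + 1) = q ^ 2 + 2 * q + 1 := by ring
  omega

end Groth.Agent.TFExt45.Cubical
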