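import Groth.Agent.Lib.TFExt45.Count

/-!
# Rank one modules over `E_6`
-/

set_option autoImplicit false

noncomputable section

namespace Groth.Agent.TFExt45.E6

open PowerSeries Groth.Agent.TFExt45.Mono Groth.Agent.TFExt45.Count

universe u

variable {k : Type u} [Field k]

/-- The semigroup of `E_6`. -/
def Γ : Set ℕ := {m | m = 0 ∨ m = 3 ∨ m = 4 ∨ 6 ≤ m}

theorem mem_closure_iff (m : ℕ) : m ∈ AddSubmonoid.closure ({3, 4} : Set ℕ) ↔ m ∈ Γ := by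
  rw [AddSubmonoid.mem_closure_pair]
  simp only [Γ, Set.mem_ofPred_eq, smul_eq_mul]
  constructor
  · rintro ⟨a, b, rfl⟩
    rcases a with _ | _ | a <;> rcases b with _ | _ | b <;> omega
  · intro h
    obtain rfl | h := eq_or_ne m 0
    · exact ⟨0, 0, rfl⟩
    · rcases (show m % 3 = 0 ∨ m % 3 = 1 ∨ m % 3 = 2 by omega) with e | e | e
      · exact ⟨m / 3, 0, by omega⟩
      · exact ⟨(m - 4) / 3, 1, by omega⟩
      · exact ⟨(m - 8) / 3, 2, by omega⟩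

theorem g3 : 3 ∈ Γ := Or.inr (Or.inl rfl)
theorem g4 : 4 ∈ Γ := Or.inr (Or.inr (Or.inl rfl))
theorem g6 : 6 ∈ Γ := Or.inr (Or.inr (Or.inr le_rfl))

/-- The module `A + A t^5`. -/
def Δ0 : Set ℕ := {m | m = 0 ∨ 3 ≤ m}
/-- The module `A + A t`. -/
def Δ1 : Set ℕ := {m | m = 0 ∨ m = 1 ∨ 3 ≤ m}
/-- The module `A + A t^2`. -/
def Δ2 : Set ℕ := {m | m = 0 ∨ 2 ≤ m}
/-- The normalisation. -/
def Δ3 : Set ℕ := Set.univ

/-- Checking sufficiency on a finite window. -/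
theorem hsuf_table {Δ : Set ℕ} {d : ℕ} (S : Finset ℕ) (L : ℕ × ℕ → Option (ℕ × ℕ))
    (hD : ∀ n, n ∈ DS Δ d ↔ n ∈ S) (N : ℕ) (hN : ∀ n ∈ S, n < N)
    (h : ∀ γ ∈ Finset.range N, (γ = 0 ∨ γ = 3 ∨ γ = 4 ∨ 6 ≤ γ) → ∀ p ∈ S, ∀ r ∈ S,
      (p + γ ∈ S → γ ≤ r → r - γ ∈ S → L (p + γ, r) = L (p, r - γ)) ∧
      (p + γ ∈ S → ¬ (γ ≤ r ∧ r - γ ∈ S) → L (p + γ, r) = none) ∧
      (p + γ ∉ S → γ ≤ r → r - γ ∈ S → L (p, r - γ) = none)) :
    ∀ γ ∈ Γ, ∀ p ∈ DS Δ d, ∀ r ∈ DS Δ d,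
      (p + γ ∈ DS Δ d → γ ≤ r → r - γ ∈ DS Δ d → L (p + γ, r) = L (p, r - γ)) ∧
      (p + γ ∈ DS Δ d → ¬ (γ ≤ r ∧ r - γ ∈ DS Δ d) → L (p + γ, r) = none) ∧
      (p + γ ∉ DS Δ d → γ ≤ r → r - γ ∈ DS Δ d → L (p, r - γ) = none) := by
  intro γ hγ p hp r hr
  simp only [hD] at hp hr ⊢
  by_cases hlt : γ < N
  · exact h γ (Finset.mem_range.2 hlt) hγ p hp r hr
  · have h1 := hN r hr
    exact ⟨fun a b => absurd b (by omega), fun a => absurd (hN _ a) (by omega), fun _ b => absurd b (by omega)⟩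

/-- The parametrisation number 0. -/
def L0 : ℕ × ℕ → Option (ℕ × ℕ) := fun x => match x with | (0, 0) => some (0, 0) | (4, 4) => some (0, 0) | (0, 4) => some (0, 4) | (0, 5) => some (0, 5) | (5, 4) => some (5, 4) | (5, 5) => some (5, 5) | _ => none

set_option synthInstance.maxSize 2000 in
theorem sol0 :
    Module.finrank k ↥(SolN k Γ Δ0 Δ0 3) = 5 := by
  have hD : ∀ n, n ∈ DS Δ0 3 ↔ n ∈ ({0, 4, 5} : Finset ℕ) := fun n => by
    simp only [DS, Δ0, Set.mem_ofPred_eq, Set.mem_univ, Finset.mem_insert, Finset.mem_singleton]; omega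
  rw [finrank_sol Γ Δ0 Δ0 3 {(0, 0), (0, 4), (0, 5), (5, 4), (5, 5)} L0]
  · rfl
  · simp only [hD]; decide
  · intro x f hp hr hx
    rw [hD] at hp hr
    obtain ⟨p, r⟩ := x
    simp only at hp hr
    fin_cases hp <;> fin_cases hr <;> simp [L0] at hx <;> subst hx <;> decide
  · intro U hU p hp r hr
    have eq := hU.2
    have zero := hU.1
    have m : ∀ n, n ∈ ({0, 4, 5} : Finset ℕ) → n ∈ DS Δ0 3 := fun n => (hD n).2
    have nm : ∀ a b, ¬ (a ∈ ({0, 4, 5} : Finset ℕ) ∧ b ∈ ({0, 4, 5} : Finset ℕ)) → ¬ (a ∈ DS Δ0 3 ∧ b ∈ DS Δ0 3) :=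
      fun a b h e => h ⟨(hD a).1 e.1, (hD b).1 e.2⟩
    have e1 : U 4 4 = U 0 0 := (eq 4 (g4) 0 (m 0 (by decide)) 4 (m 4 (by decide)))
    have e2 : U 4 0 = 0 := (eq 4 (g4) 0 (m 0 (by decide)) 0 (m 0 (by decide)))
    have e3 : U 4 5 = 0 := ((eq 4 (g4) 0 (m 0 (by decide)) 5 (m 5 (by decide))).trans (zero 0 1 (nm _ _ (by decide))))
    have e4 : U 5 0 = 0 := ((eq 4 (g4) 5 (m 5 (by decide)) 4 (m 4 (by decide))).symm.trans (zero 9 4 (nm _ _ (by decide))))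
    rw [hD] at hp hr
    fin_cases hp <;> fin_cases hr <;> first | rfl | exact e1 | exact e2 | exact e3 | exact e4
  · refine hsuf_table _ L0 hD 6 (by decide) ?_
    decide

/-- The parametrisation number 1. -/
def L1 : ℕ × ℕ → Option (ℕ × ℕ) := fun x => match x with | (0, 0) => some (0, 0) | (0, 5) => some (0, 5) | (1, 0) => some (1, 0) | (1, 1) => some (1, 1) | (5, 5) => some (1, 1) | (1, 5) => some (1, 5) | _ => none

set_option synthInstance.maxSize 2000 in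
theorem sol1 :
    Module.finrank k ↥(SolN k Γ Δ1 Δ1 3) = 5 := by
  have hD : ∀ n, n ∈ DS Δ1 3 ↔ n ∈ ({0, 1, 5} : Finset ℕ) := fun n => by
    simp only [DS, Δ1, Set.mem_ofPred_eq, Set.mem_univ, Finset.mem_insert, Finset.mem_singleton]; omega
  rw [finrank_sol Γ Δ1 Δ1 3 {(0, 0), (0, 5), (1, 0), (1, 1), (1, 5)} L1]
  · rfl
  · simp only [hD]; decide
  · intro x f hp hr hx
    rw [hD] at hp hr
    obtain ⟨p, r⟩ := x
    simp only at hp hr
    fin_cases hp <;> fin_cases hr <;> simp [L1] at hx <;> subst hx <;> decide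
  · intro U hU p hp r hr
    have eq := hU.2
    have zero := hU.1
    have m : ∀ n, n ∈ ({0, 1, 5} : Finset ℕ) → n ∈ DS Δ1 3 := fun n => (hD n).2
    have nm : ∀ a b, ¬ (a ∈ ({0, 1, 5} : Finset ℕ) ∧ b ∈ ({0, 1, 5} : Finset ℕ)) → ¬ (a ∈ DS Δ1 3 ∧ b ∈ DS Δ1 3) :=
      fun a b h e => h ⟨(hD a).1 e.1, (hD b).1 e.2⟩
    have e1 : U 0 1 = 0 := ((eq 4 (g4) 0 (m 0 (by decide)) 5 (m 5 (by decide))).symm.trans (zero 4 5 (nm _ _ (by decide))))
    have e2 : U 5 0 = 0 := (eq 4 (g4) 1 (m 1 (by decide)) 0 (m 0 (by decide)))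
    have e3 : U 5 1 = 0 := (eq 4 (g4) 1 (m 1 (by decide)) 1 (m 1 (by decide)))
    have e4 : U 5 5 = U 1 1 := (eq 4 (g4) 1 (m 1 (by decide)) 5 (m 5 (by decide)))
    rw [hD] at hp hr
    fin_cases hp <;> fin_cases hr <;> first | rfl | exact e1 | exact e2 | exact e3 | exact e4
  · refine hsuf_table _ L1 hD 6 (by decide) ?_
    decide

/-- The parametrisation number 2. -/
def L2 : ℕ × ℕ → Option (ℕ × ℕ) := fun x => match x with | (0, 0) => some (0, 0) | (3, 3) => some (0, 0) | (0, 2) => some (0, 2) | (3, 5) => some (0, 2) | (0, 3) => some (0, 3) | (0, 5) => some (0, 5) | (2, 0) => some (2, 0) | (5, 3) => some (2, 0) | (2, 2) => some (2, 2) | (5, 5) => some (2, 2) | (2, 3) => some (2, 3) | (2, 5) => some (2, 5) | _ => none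

set_option synthInstance.maxSize 2000 in
theorem sol2 :
    Module.finrank k ↥(SolN k Γ Δ2 Δ2 4) = 8 := by
  have hD : ∀ n, n ∈ DS Δ2 4 ↔ n ∈ ({0, 2, 3, 5} : Finset ℕ) := fun n => by
    simp only [DS, Δ2, Set.mem_ofPred_eq, Set.mem_univ, Finset.mem_insert, Finset.mem_singleton]; omega
  rw [finrank_sol Γ Δ2 Δ2 4 {(0, 0), (0, 2), (0, 3), (0, 5), (2, 0), (2, 2), (2, 3), (2, 5)} L2]
  · rfl
  · simp only [hD]; decide
  · intro x f hp hr hx
    rw [hD] at hp hr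
    obtain ⟨p, r⟩ := x
    simp only at hp hr
    fin_cases hp <;> fin_cases hr <;> simp [L2] at hx <;> subst hx <;> decide
  · intro U hU p hp r hr
    have eq := hU.2
    have zero := hU.1
    have m : ∀ n, n ∈ ({0, 2, 3, 5} : Finset ℕ) → n ∈ DS Δ2 4 := fun n => (hD n).2
    have nm : ∀ a b, ¬ (a ∈ ({0, 2, 3, 5} : Finset ℕ) ∧ b ∈ ({0, 2, 3, 5} : Finset ℕ)) → ¬ (a ∈ DS Δ2 4 ∧ b ∈ DS Δ2 4) :=
      fun a b h e => h ⟨(hD a).1 e.1, (hD b).1 e.2⟩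
    have e1 : U 3 3 = U 0 0 := (eq 3 (g3) 0 (m 0 (by decide)) 3 (m 3 (by decide)))
    have e2 : U 3 5 = U 0 2 := (eq 3 (g3) 0 (m 0 (by decide)) 5 (m 5 (by decide)))
    have e3 : U 5 3 = U 2 0 := (eq 3 (g3) 2 (m 2 (by decide)) 3 (m 3 (by decide)))
    have e4 : U 5 5 = U 2 2 := (eq 3 (g3) 2 (m 2 (by decide)) 5 (m 5 (by decide)))
    have e5 : U 3 0 = 0 := (eq 3 (g3) 0 (m 0 (by decide)) 0 (m 0 (by decide)))
    have e6 : U 3 2 = 0 := (eq 3 (g3) 0 (m 0 (by decide)) 2 (m 2 (by decide)))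
    have e7 : U 5 0 = 0 := (eq 3 (g3) 2 (m 2 (by decide)) 0 (m 0 (by decide)))
    have e8 : U 5 2 = 0 := (eq 3 (g3) 2 (m 2 (by decide)) 2 (m 2 (by decide)))
    rw [hD] at hp hr
    fin_cases hp <;> fin_cases hr <;> first | rfl | exact e1 | exact e2 | exact e3 | exact e4 | exact e5 | exact e6 | exact e7 | exact e8
  · refine hsuf_table _ L2 hD 6 (by decide) ?_
    decide

/-- The parametrisation number 3. -/
def L3 : ℕ × ℕ → Option (ℕ × ℕ) := fun x => match x with | (0, 0) => some (0, 0) | (1, 1) => some (0, 0) | (2, 2) => some (0, 0) | (3, 3) => some (0, 0) | (4, 4) => some (0, 0) | (5, 5) => some (0, 0) | (0, 1) => some (0, 1) | (1, 2) => some (0, 1) | (3, 4) => some (0, 1) | (4, 5) => some (0, 1) | (0, 2) => some (0, 2) | (3, 5) => some (0, 2) | (0, 3) => some (0, 3) | (0, 4) => some (0, 4) | (0, 5) => some (0, 5) | (1, 3) => some (1, 3) | (1, 4) => some (1, 4) | (1, 5) => some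 (1, 5) | (2, 3) => some (2, 3) | (2, 4) => some (2, 4) | (2, 5) => some (2, 5) | _ => none

set_option synthInstance.maxSize 2000 in
theorem sol3 :
    Module.finrank k ↥(SolN k Γ Δ3 Δ3 6) = 12 := by
  have hD : ∀ n, n ∈ DS Δ3 6 ↔ n ∈ ({0, 1, 2, 3, 4, 5} : Finset ℕ) := fun n => by
    simp only [DS, Δ3, Set.mem_ofPred_eq, Set.mem_univ, and_true, true_and, Finset.mem_insert, Finset.mem_singleton]; omega
  rw [finrank_sol Γ Δ3 Δ3 6 {(0, 0), (0, 1), (0, 2), (0, 3), (0, 4), (0, 5), (1, 3), (1, 4), (1, 5), (2, 3), (2, 4), (2, 5)} L3]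
  · rfl
  · simp only [hD]; decide
  · intro x f hp hr hx
    rw [hD] at hp hr
    obtain ⟨p, r⟩ := x
    simp only at hp hr
    fin_cases hp <;> fin_cases hr <;> simp [L3] at hx <;> subst hx <;> decide
  · intro U hU p hp r hr
    have eq := hU.2
    have zero := hU.1
    have m : ∀ n, n ∈ ({0, 1, 2, 3, 4, 5} : Finset ℕ) → n ∈ DS Δ3 6 := fun n => (hD n).2
    have nm : ∀ a b, ¬ (a ∈ ({0, 1, 2, 3, 4, 5} : Finset ℕ) ∧ b ∈ ({0, 1, 2, 3, 4, 5} : Finset ℕ)) → ¬ (a ∈ DS Δ3 6 ∧ b ∈ DS Δ3 6) :=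
      fun a b h e => h ⟨(hD a).1 e.1, (hD b).1 e.2⟩
    have e1 : U 3 3 = U 0 0 := (eq 3 (g3) 0 (m 0 (by decide)) 3 (m 3 (by decide)))
    have e2 : U 4 4 = U 0 0 := (eq 4 (g4) 0 (m 0 (by decide)) 4 (m 4 (by decide)))
    have e3 : U 1 1 = U 0 0 := (eq 3 (g3) 1 (m 1 (by decide)) 4 (m 4 (by decide))).symm.trans e2
    have e4 : U 5 5 = U 0 0 := (eq 4 (g4) 1 (m 1 (by decide)) 5 (m 5 (by decide))).trans e3
    have e5 : U 2 2 = U 0 0 := (eq 3 (g3) 2 (m 2 (by decide)) 5 (m 5 (by decide))).symm.trans e4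
    have e6 : U 3 4 = U 0 1 := (eq 3 (g3) 0 (m 0 (by decide)) 4 (m 4 (by decide)))
    have e7 : U 4 5 = U 0 1 := (eq 4 (g4) 0 (m 0 (by decide)) 5 (m 5 (by decide)))
    have e8 : U 1 2 = U 0 1 := (eq 3 (g3) 1 (m 1 (by decide)) 5 (m 5 (by decide))).symm.trans e7
    have e9 : U 3 5 = U 0 2 := (eq 3 (g3) 0 (m 0 (by decide)) 5 (m 5 (by decide)))
    have e10 : U 3 0 = 0 := (eq 3 (g3) 0 (m 0 (by decide)) 0 (m 0 (by decide)))
    have e11 : U 3 1 = 0 := (eq 3 (g3) 0 (m 0 (by decide)) 1 (m 1 (by decide)))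
    have e12 : U 3 2 = 0 := (eq 3 (g3) 0 (m 0 (by decide)) 2 (m 2 (by decide)))
    have e13 : U 4 0 = 0 := (eq 3 (g3) 1 (m 1 (by decide)) 0 (m 0 (by decide)))
    have e14 : U 4 1 = 0 := (eq 3 (g3) 1 (m 1 (by decide)) 1 (m 1 (by decide)))
    have e15 : U 4 2 = 0 := (eq 3 (g3) 1 (m 1 (by decide)) 2 (m 2 (by decide)))
    have e16 : U 5 0 = 0 := (eq 3 (g3) 2 (m 2 (by decide)) 0 (m 0 (by decide)))
    have e17 : U 5 1 = 0 := (eq 3 (g3) 2 (m 2 (by decide)) 1 (m 1 (by decide)))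
    have e18 : U 5 2 = 0 := (eq 3 (g3) 2 (m 2 (by decide)) 2 (m 2 (by decide)))
    have e19 : U 4 3 = 0 := (eq 4 (g4) 0 (m 0 (by decide)) 3 (m 3 (by decide)))
    have e20 : U 5 3 = 0 := (eq 4 (g4) 1 (m 1 (by decide)) 3 (m 3 (by decide)))
    have e21 : U 2 0 = 0 := ((eq 4 (g4) 2 (m 2 (by decide)) 4 (m 4 (by decide))).symm.trans (zero 6 4 (nm _ _ (by decide))))
    have e22 : U 2 1 = 0 := ((eq 4 (g4) 2 (m 2 (by decide)) 5 (m 5 (by decide))).symm.trans (zero 6 5 (nm _ _ (by decide))))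
    have e23 : U 1 0 = 0 := (eq 3 (g3) 1 (m 1 (by decide)) 3 (m 3 (by decide))).symm.trans e19
    have e24 : U 5 4 = 0 := (eq 3 (g3) 2 (m 2 (by decide)) 4 (m 4 (by decide))).trans e22
    rw [hD] at hp hr
    fin_cases hp <;> fin_cases hr <;> first | rfl | exact e1 | exact e2 | exact e3 | exact e4 | exact e5 | exact e6 | exact e7 | exact e8 | exact e9 | exact e10 | exact e11 | exact e12 | exact e13 | exact e14 | exact e15 | exact e16 | exact e17 | exact e18 | exact e19 | exact e20 | exact e21 | exact e22 | exact e23 | exact e24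
  · refine hsuf_table _ L3 hD 6 (by decide) ?_
    decide

/-- The length for the module number 0. -/
theorem length0 {A : Subalgebra k k⟦X⟧} (hA : MonAlg A Γ) :
    Module.length ↥A (CategoryTheory.Abelian.Ext.{u}
      (ModuleCat.of ↥A ↥(Submodule.span ↥A ({1, (X : k⟦X⟧) ^ 5} : Set k⟦X⟧)))
      (ModuleCat.of ↥A ↥(Submodule.span ↥A ({1, (X : k⟦X⟧) ^ 5} : Set k⟦X⟧))) 1) = (2 : ℕ∞) := by
  classical
  let μ : MonMod A Γ ↥(Submodule.span ↥A ({1, (X : k⟦X⟧) ^ 5} : Set k⟦X⟧)) :=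
    spanMod hA _ {0, 5} (by simp [Set.image_insert_eq]) Δ0
      (by intro a ha; simp at ha; rcases ha with rfl | rfl <;> simp [Δ0])
      (fun γ hγ m hm => by simp only [Γ, Δ0, Set.mem_ofPred_eq] at hγ hm ⊢ <;> omega)
      (fun m hm => by
        simp only [Δ0, Set.mem_ofPred_eq] at hm
        by_cases h : m = 0 ∨ m = 3 ∨ m = 4 ∨ 6 ≤ m
        · exact ⟨0, by simp, Nat.zero_le _, h⟩
        · exact ⟨5, by simp, by omega, Or.inl (by omega)⟩
      )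
      (by simp [Δ0]) 6 (fun m hm => by simp only [Δ0, Set.mem_ofPred_eq] <;> omega)
  rw [length_mono hA μ μ 3 3 0 rfl (by simp [Γ])
    (fun m (hm : m ∈ Δ0) => by simp only [Γ, Δ0, Set.mem_ofPred_eq] at hm ⊢ <;> omega)
    (show 0 ∈ Δ0 by simp [Δ0]) _ sol0]
  rfl

/-- The length for the module number 1. -/
theorem length1 {A : Subalgebra k k⟦X⟧} (hA : MonAlg A Γ) :
    Module.length ↥A (CategoryTheory.Abelian.Ext.{u}
      (ModuleCat.of ↥A ↥(Submodule.span ↥A ({1, (X : k⟦X⟧)} : Set k⟦X⟧)))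
      (ModuleCat.of ↥A ↥(Submodule.span ↥A ({1, (X : k⟦X⟧)} : Set k⟦X⟧))) 1) = (2 : ℕ∞) := by
  classical
  let μ : MonMod A Γ ↥(Submodule.span ↥A ({1, (X : k⟦X⟧)} : Set k⟦X⟧)) :=
    spanMod hA _ {0, 1} (by simp [Set.image_insert_eq]) Δ1
      (by intro a ha; simp at ha; rcases ha with rfl | rfl <;> simp [Δ1])
      (fun γ hγ m hm => by simp only [Γ, Δ1, Set.mem_ofPred_eq, Set.mem_univ] at hγ hm ⊢ <;> omega)
      (fun m hm => by
        simp only [Δ1, Set.mem_ofPred_eq, Set.mem_univ] at hm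
        by_cases h : m = 0 ∨ m = 3 ∨ m = 4 ∨ 6 ≤ m
        · exact ⟨0, by simp, Nat.zero_le _, h⟩
        · exact ⟨1, by simp, by omega, by simp only [Γ, Set.mem_ofPred_eq]; omega⟩
      )
      (by simp [Δ1]) 6 (fun m hm => by simp only [Δ1, Set.mem_ofPred_eq, Set.mem_univ] <;> omega)
  rw [length_mono hA μ μ 3 3 0 rfl (by simp [Γ])
    (fun m (hm : m ∈ Δ1) => by simp only [Γ, Δ1, Set.mem_ofPred_eq, Set.mem_univ] at hm ⊢ <;> omega)
    (show 0 ∈ Δ1 by simp [Δ1]) _ sol1]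
  rfl

/-- The length for the module number 2. -/
theorem length2 {A : Subalgebra k k⟦X⟧} (hA : MonAlg A Γ) :
    Module.length ↥A (CategoryTheory.Abelian.Ext.{u}
      (ModuleCat.of ↥A ↥(Submodule.span ↥A ({1, (X : k⟦X⟧) ^ 2} : Set k⟦X⟧)))
      (ModuleCat.of ↥A ↥(Submodule.span ↥A ({1, (X : k⟦X⟧) ^ 2} : Set k⟦X⟧))) 1) = (4 : ℕ∞) := by
  classical
  let μ : MonMod A Γ ↥(Submodule.span ↥A ({1, (X : k⟦X⟧) ^ 2} : Set k⟦X⟧)) :=
    spanMod hA _ {0, 2} (by simp [Set.image_insert_eq]) Δ2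
      (by intro a ha; simp at ha; rcases ha with rfl | rfl <;> simp [Δ2])
      (fun γ hγ m hm => by simp only [Γ, Δ2, Set.mem_ofPred_eq, Set.mem_univ] at hγ hm ⊢ <;> omega)
      (fun m hm => by
        simp only [Δ2, Set.mem_ofPred_eq, Set.mem_univ] at hm
        by_cases h : m = 0 ∨ m = 3 ∨ m = 4 ∨ 6 ≤ m
        · exact ⟨0, by simp, Nat.zero_le _, h⟩
        · exact ⟨2, by simp, by omega, by simp only [Γ, Set.mem_ofPred_eq]; omega⟩
      )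
      (by simp [Δ2]) 6 (fun m hm => by simp only [Δ2, Set.mem_ofPred_eq, Set.mem_univ] <;> omega)
  rw [length_mono hA μ μ 4 4 0 rfl (by simp [Γ])
    (fun m (hm : m ∈ Δ2) => by simp only [Γ, Δ2, Set.mem_ofPred_eq, Set.mem_univ] at hm ⊢ <;> omega)
    (show 0 ∈ Δ2 by simp [Δ2]) _ sol2]
  rfl

/-- The length for the module number 3. -/
theorem length3 {A : Subalgebra k k⟦X⟧} (hA : MonAlg A Γ) :
    Module.length ↥A (CategoryTheory.Abelian.Ext.{u}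
      (ModuleCat.of ↥A ↥(Submodule.span ↥A ({1, (X : k⟦X⟧), (X : k⟦X⟧) ^ 2} : Set k⟦X⟧)))
      (ModuleCat.of ↥A ↥(Submodule.span ↥A ({1, (X : k⟦X⟧), (X : k⟦X⟧) ^ 2} : Set k⟦X⟧))) 1) = (6 : ℕ∞) := by
  classical
  let μ : MonMod A Γ ↥(Submodule.span ↥A ({1, (X : k⟦X⟧), (X : k⟦X⟧) ^ 2} : Set k⟦X⟧)) :=
    spanMod hA _ {0, 1, 2} (by simp [Set.image_insert_eq]) Δ3
      (by intro a ha; simp at ha; rcases ha with rfl | rfl | rfl <;> simp [Δ3])
      (fun γ hγ m hm => by simp only [Γ, Δ3, Set.mem_ofPred_eq, Set.mem_univ] at hγ hm ⊢ <;> omega)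
      (fun m hm => by
        simp only [Δ3, Set.mem_ofPred_eq, Set.mem_univ] at hm
        by_cases h : m = 0 ∨ m = 3 ∨ m = 4 ∨ 6 ≤ m
        · exact ⟨0, by simp, Nat.zero_le _, h⟩
        · by_cases h' : m = 2
          · exact ⟨2, by simp, by omega, Or.inl (by omega)⟩
          · exact ⟨1, by simp, by omega, by simp only [Γ, Set.mem_ofPred_eq]; omega⟩
      )
      (by simp [Δ3]) 6 (fun m hm => by simp only [Δ3, Set.mem_ofPred_eq, Set.mem_univ] <;> omega)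
  rw [length_mono hA μ μ 6 6 0 rfl (by simp [Γ])
    (fun m (hm : m ∈ Δ3) => by simp only [Γ, Δ3, Set.mem_ofPred_eq, Set.mem_univ] at hm ⊢ <;> omega)
    (show 0 ∈ Δ3 by simp [Δ3]) _ sol3]
  rfl

end Groth.Agent.TFExt45.E6
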