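import Groth.Agent.Lib.TFExt45.Coord
import Mathlib.RingTheory.PowerSeries.Inverse
import Mathlib.RingTheory.PowerSeries.Order

/-!
# Monomial modules over monomial subalgebras of `k[[t]]`
-/

set_option autoImplicit false

noncomputable section

namespace Groth.Agent.TFExt45.Mono

open PowerSeries

universe u

variable {k : Type u} [Field k]

/-- The series supported in a set of exponents. -/
def monSet (k : Type u) [Field k] (S : Set ℕ) : Submodule k k⟦X⟧ where
  carrier := {f | ∀ n, coeff n f ≠ 0 → n ∈ S}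
  zero_mem' := fun n h => absurd (map_zero _) h
  add_mem' := fun {f g} hf hg n h => by
    by_contra hn
    refine h ?_
    rw [map_add, not_not.1 (fun h' => hn (hf n h')), not_not.1 (fun h' => hn (hg n h')), add_zero]
  smul_mem' := fun c f hf n h => hf n fun h' => h (by rw [map_smul, h', smul_zero])

theorem mem_monSet {S : Set ℕ} {f : k⟦X⟧} : f ∈ monSet k S ↔ ∀ n, n ∉ S → coeff n f = 0 :=
  ⟨fun h n hn => by_contra fun h' => hn (h n h'), fun h n hn => by_contra fun h' => hn (h n h')⟩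

theorem monomial_mem {S : Set ℕ} {n : ℕ} (h : n ∈ S) (c : k) : monomial n c ∈ monSet k S :=
  mem_monSet.2 fun m hm => by rw [coeff_monomial, if_neg fun (e : m = n) => hm (by rw [e]; exact h)]

/-- A monomial subalgebra of `k[[t]]`. -/
structure MonAlg (A : Subalgebra k k⟦X⟧) (Γ : Set ℕ) : Prop where
  mem : ∀ f, f ∈ A ↔ f ∈ monSet k Γ
  zero : 0 ∈ Γ
  add : ∀ a ∈ Γ, ∀ b ∈ Γ, a + b ∈ Γ

theorem monAlg_of {A : Subalgebra k k⟦X⟧} {Γ : Set ℕ}
    (hmono : ∀ f : k⟦X⟧, f ∈ A ↔ ∀ m : ℕ, coeff m f ≠ 0 → m ∈ Γ) : MonAlg A Γ := by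
  have hX : ∀ a ∈ Γ, (X : k⟦X⟧) ^ a ∈ A := fun a ha => (hmono _).2 fun m hm => by
    rw [coeff_X_pow] at hm
    split at hm
    next h => exact h ▸ ha
    next => exact absurd rfl hm
  refine ⟨fun f => hmono f, ?_, fun a ha b hb => ?_⟩
  · refine (hmono 1).1 A.one_mem 0 ?_
    simp
  · have := (hmono _).1 (A.mul_mem (hX a ha) (hX b hb)) (a + b)
    rw [← pow_add, coeff_X_pow_self] at this
    exact this one_ne_zero

variable {A : Subalgebra k k⟦X⟧} {Γ : Set ℕ}

/-- A monomial of the algebra. -/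
def tA (hA : MonAlg A Γ) (γ : ↥Γ) : ↥A :=
  ⟨monomial (γ : ℕ) (1 : k), (hA.mem _).2 (monomial_mem γ.2 1)⟩

theorem inv_mem (hA : MonAlg A Γ) {f : k⟦X⟧} (hf : f ∈ A) (h0 : constantCoeff f ≠ 0) : f⁻¹ ∈ A := by
  refine (hA.mem _).2 (mem_monSet.2 fun n hn => ?_)
  induction n using Nat.strong_induction_on with
  | _ n ih =>
    have hn0 : n ≠ 0 := fun h => hn (h ▸ hA.zero)
    have h1 : coeff n (f * f⁻¹) = 0 := by rw [PowerSeries.mul_inv_cancel _ h0, coeff_one, if_neg hn0]
    rw [coeff_mul, Finset.sum_eq_single (0, n) (fun x hx hne => ?_) (by simp)] at h1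
    · exact (mul_eq_zero.1 h1).resolve_left (by rwa [coeff_zero_eq_constantCoeff])
    · obtain ⟨a, b⟩ := x
      rw [Finset.HasAntidiagonal.mem_antidiagonal] at hx
      simp only at hx ⊢
      have ha : a ≠ 0 := fun h => hne (by simp [h] at hx ⊢; exact hx)
      by_cases hb : b ∈ Γ
      · have : a ∉ Γ := fun h => hn (hx ▸ hA.add a h b hb)
        rw [mem_monSet.1 ((hA.mem f).1 hf) a this, zero_mul]
      · rw [ih b (by omega) hb, mul_zero]

theorem hloc (hA : MonAlg A Γ) (a : ↥A) :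
    ∃ c : k, ∀ b : ↥A, IsUnit (1 - b * (a - algebraMap k ↥A c)) := by
  refine ⟨constantCoeff (a : k⟦X⟧), fun b => ?_⟩
  have h0 : constantCoeff ((1 - b * (a - algebraMap k ↥A (constantCoeff (a : k⟦X⟧))) : ↥A) : k⟦X⟧) ≠ 0 := by
    simp
  exact IsUnit.of_mul_eq_one ⟨_, inv_mem hA (SetLike.coe_mem _) h0⟩
    (Subtype.ext (PowerSeries.mul_inv_cancel _ h0))

theorem span_eq (hA : MonAlg A Γ) (S : Finset ℕ) (Δ : Set ℕ) (hS : ↑S ⊆ Δ)
    (hΔ : ∀ γ ∈ Γ, ∀ δ ∈ Δ, γ + δ ∈ Δ) (hcov : ∀ δ ∈ Δ, ∃ a ∈ S, a ≤ δ ∧ δ - a ∈ Γ) :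
    ∀ f : k⟦X⟧, f ∈ Submodule.span ↥A ((fun a : ℕ => (X : k⟦X⟧) ^ a) '' ↑S) ↔ f ∈ monSet k Δ := by
  classical
  intro f
  constructor
  · intro h
    induction h using Submodule.span_induction with
    | mem x hx =>
      obtain ⟨a, ha, rfl⟩ := hx
      show (X : k⟦X⟧) ^ a ∈ _
      rw [X_pow_eq]
      exact monomial_mem (hS ha) 1
    | zero => exact zero_mem _
    | add x y _ _ hx hy => exact add_mem hx hy
    | smul a x _ hx =>
      refine mem_monSet.2 fun n hn => ?_
      show coeff n ((a : k⟦X⟧) * x) = 0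
      rw [coeff_mul]
      refine Finset.sum_eq_zero fun p hp => ?_
      rw [Finset.HasAntidiagonal.mem_antidiagonal] at hp
      by_cases h1 : p.1 ∈ Γ
      · rw [mem_monSet.1 hx p.2 (fun h2 => hn (hp ▸ hΔ _ h1 _ h2)), mul_zero]
      · rw [mem_monSet.1 ((hA.mem _).1 a.2) p.1 h1, zero_mul]
  · intro hf
    choose! sel hsel using hcov
    let piece : ℕ → k⟦X⟧ := fun a => mk fun g => if g + a ∈ Δ ∧ sel (g + a) = a then coeff (g + a) f else 0
    have hpiece : ∀ a, piece a ∈ A := fun a => (hA.mem _).2 (mem_monSet.2 fun g hg => by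
      simp only [piece, coeff_mk]
      rw [if_neg]
      rintro ⟨h1, h2⟩
      have := (hsel _ h1).2.2
      rw [h2, Nat.add_sub_cancel] at this
      exact hg this)
    have e : f = ∑ a ∈ S, piece a * X ^ a := by
      ext n
      rw [map_sum]
      by_cases hn : n ∈ Δ
      · obtain ⟨h1, h2, -⟩ := hsel n hn
        rw [Finset.sum_eq_single (sel n)]
        · rw [coeff_mul_X_pow', if_pos h2]
          simp [piece, Nat.sub_add_cancel h2, hn]
        · intro b _ hb
          rw [coeff_mul_X_pow']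
          split
          next hle => simp [piece, Nat.sub_add_cancel hle, hn, Ne.symm hb]
          next => rfl
        · exact fun h => absurd h1 h
      · rw [mem_monSet.1 hf n hn]
        refine (Finset.sum_eq_zero fun b _ => ?_).symm
        rw [coeff_mul_X_pow']
        split
        next hle => simp [piece, Nat.sub_add_cancel hle, hn]
        next => rfl
    rw [e]
    exact sum_mem fun a ha => Submodule.smul_mem _ (⟨piece a, hpiece a⟩ : ↥A) (Submodule.subset_span ⟨a, ha, rfl⟩)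

/-- A monomial module with its exponents. -/
structure MonMod (A : Subalgebra k k⟦X⟧) (Γ : Set ℕ) (M : Type u) [AddCommGroup M] [Module ↥A M]
    [Module k M] where
  Δ : Set ℕ
  ι : M →ₗ[↥A] k⟦X⟧
  inj : Function.Injective ι
  range : ∀ f, f ∈ LinearMap.range ι ↔ f ∈ monSet k Δ
  zero : 0 ∈ Δ
  C : ℕ
  full : ∀ n, C ≤ n → n ∈ Δ
  add : ∀ γ ∈ Γ, ∀ δ ∈ Δ, γ + δ ∈ Δ

/-- The exponents of a reduced module. -/
def DS (Δ : Set ℕ) (d : ℕ) : Set ℕ := {n | n ∈ Δ ∧ ¬ (d ≤ n ∧ n - d ∈ Δ)}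

variable {M N : Type u} [AddCommGroup M] [Module ↥A M] [Module k M] [IsScalarTower k ↥A M]
  [AddCommGroup N] [Module ↥A N] [Module k N] [IsScalarTower k ↥A N]

namespace MonMod

variable (μ : MonMod A Γ M)

/-- The embedding as a linear map over the field. -/
def ιk : M →ₗ[k] k⟦X⟧ where
  toFun := μ.ι
  map_add' := map_add _
  map_smul' c m := by
    rw [RingHom.id_apply, ← algebraMap_smul (↥A) c m, map_smul, algebraMap_smul]

theorem ι_mem (m : M) : μ.ι m ∈ monSet k μ.Δ := (μ.range _).1 ⟨m, rfl⟩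

/-- Coordinates modulo `t ^ d`. -/
def pr (d : ℕ) : M →ₗ[k] ↥(DS μ.Δ d) → k :=
  LinearMap.pi fun p => (coeff (p : ℕ)) ∘ₗ μ.ιk

theorem finite_DS (d : ℕ) : (DS μ.Δ d).Finite :=
  (Set.finite_Iio (μ.C + d)).subset fun n hn => by
    show n < μ.C + d
    by_contra h
    exact hn.2 ⟨by omega, μ.full _ (by omega)⟩

theorem pr_surjective (d : ℕ) : Function.Surjective (μ.pr d) := by
  classical
  intro v
  obtain ⟨m, hm⟩ := (μ.range (PowerSeries.mk fun n => if h : n ∈ DS μ.Δ d then v ⟨n, h⟩ else 0)).2 (mem_monSet.2 fun n hn => by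
    rw [coeff_mk, dif_neg]
    exact fun h => hn h.1)
  refine ⟨m, funext fun p => ?_⟩
  show coeff (p : ℕ) (μ.ι m) = v p
  rw [hm, coeff_mk, dif_pos p.2]

theorem pr_eq_zero (hA : MonAlg A Γ) {d : ℕ} (hd : d ∈ Γ) (m : M) :
    μ.pr d m = 0 ↔ ∃ m', m = tA hA ⟨d, hd⟩ • m' := by
  constructor
  · intro h
    have hsupp : ∀ n, coeff n (μ.ι m) ≠ 0 → d ≤ n ∧ n - d ∈ μ.Δ := fun n hn => by
      by_contra hnot
      exact hn (congrFun h ⟨n, μ.ι_mem m n hn, hnot⟩)
    obtain ⟨m', hm'⟩ := (μ.range (PowerSeries.mk fun n => coeff (n + d) (μ.ι m))).2 fun n hn => by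
      rw [coeff_mk] at hn
      simpa using (hsupp _ hn).2
    refine ⟨m', μ.inj ?_⟩
    rw [map_smul, hm']
    show μ.ι m = monomial d (1 : k) * _
    rw [← X_pow_eq]
    ext n
    rw [coeff_X_pow_mul']
    split
    next hle => rw [coeff_mk, Nat.sub_add_cancel hle]
    next hle => exact by_contra fun hne => hle (hsupp n hne).1
  · rintro ⟨m', rfl⟩
    funext p
    show coeff (p : ℕ) (μ.ι (tA hA ⟨d, hd⟩ • m')) = 0
    rw [map_smul]
    show coeff (p : ℕ) (monomial d (1 : k) * μ.ι m') = 0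
    rw [← X_pow_eq, coeff_X_pow_mul']
    split
    next hle =>
      by_contra hne
      exact p.2.2 ⟨hle, μ.ι_mem m' _ hne⟩
    next => rfl

open Classical in
/-- The action of a monomial on coordinates. -/
def T (d : ℕ) (γ : ℕ) : (↥(DS μ.Δ d) → k) →ₗ[k] (↥(DS μ.Δ d) → k) where
  toFun v p := if h : γ ≤ (p : ℕ) ∧ (p : ℕ) - γ ∈ DS μ.Δ d then v ⟨_, h.2⟩ else 0
  map_add' v w := funext fun p => by
    simp only [Pi.add_apply]
    split <;> simp
  map_smul' c v := funext fun p => by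
    simp only [Pi.smul_apply, RingHom.id_apply]
    split <;> simp

theorem pr_smul (hA : MonAlg A Γ) {d : ℕ} (γ : ↥Γ) (m : M) :
    μ.pr d (tA hA γ • m) = μ.T d γ (μ.pr d m) := by
  classical
  funext p
  show coeff (p : ℕ) (μ.ι (tA hA γ • m)) = dite _ _ _
  rw [map_smul]
  show coeff (p : ℕ) (monomial (γ : ℕ) (1 : k) * μ.ι m) = _
  rw [← X_pow_eq, coeff_X_pow_mul']
  by_cases hle : (γ : ℕ) ≤ (p : ℕ)
  · rw [if_pos hle]
    split
    next h => rfl
    next h =>
      by_contra hne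
      have hΔ := μ.ι_mem m _ hne
      by_cases hd' : d ≤ (p : ℕ) - γ ∧ (p : ℕ) - γ - d ∈ μ.Δ
      · refine p.2.2 ⟨by omega, ?_⟩
        rw [show (p : ℕ) - d = (γ : ℕ) + ((p : ℕ) - γ - d) by omega]
        exact μ.add _ γ.2 _ hd'.2
      · exact h ⟨hle, hΔ, hd'⟩
  · rw [if_neg hle, dif_neg fun h => hle h.1]

theorem pr_high (hA : MonAlg A Γ) {d : ℕ} (a : ↥A) (ha : ∀ n, n < μ.C + d → coeff n (a : k⟦X⟧) = 0) (m : M) :
    μ.pr d (a • m) = 0 := by
  funext p
  show coeff (p : ℕ) (μ.ι (a • m)) = 0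
  rw [map_smul]
  show coeff (p : ℕ) ((a : k⟦X⟧) * μ.ι m) = 0
  have hp : (p : ℕ) < μ.C + d := by
    by_contra h
    exact p.2.2 ⟨by omega, μ.full _ (by omega)⟩
  rw [coeff_mul]
  refine Finset.sum_eq_zero fun x hx => ?_
  rw [Finset.HasAntidiagonal.mem_antidiagonal] at hx
  rw [ha x.1 (by omega), zero_mul]

end MonMod

open Classical in
/-- The combinatorial space of homomorphisms between reduced monomial modules. -/
def SolN (k : Type u) [Field k] (Γ Δ Δ' : Set ℕ) (d : ℕ) : Submodule k (ℕ → ℕ → k) where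
  carrier := {U | (∀ p r, ¬ (p ∈ DS Δ d ∧ r ∈ DS Δ' d) → U p r = 0) ∧
    ∀ γ ∈ Γ, ∀ p ∈ DS Δ d, ∀ r ∈ DS Δ' d, U (p + γ) r = if γ ≤ r then U p (r - γ) else 0}
  zero_mem' := ⟨fun _ _ _ => rfl, fun γ _ p _ r _ => by simp⟩
  add_mem' := fun {a b} ha hb => ⟨fun p r h => by simp [ha.1 p r h, hb.1 p r h], fun γ hγ p hp r hr => by
    simp only [Pi.add_apply, ha.2 γ hγ p hp r hr, hb.2 γ hγ p hp r hr]
    split <;> simp⟩
  smul_mem' := fun c a ha => ⟨fun p r h => by simp [ha.1 p r h], fun γ hγ p hp r hr => by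
    simp only [Pi.smul_apply, ha.2 γ hγ p hp r hr]
    split <;> simp⟩

/-- Homomorphisms modulo a monomial as a combinatorial space. -/
theorem hom_finrank (hA : MonAlg A Γ) (μ : MonMod A Γ M) (ν : MonMod A Γ N) (d : ℕ) (hdΓ : d ∈ Γ) :
    FiniteDimensional k (M →ₗ[↥A] N ⧸ LinearMap.range (LinearMap.lsmul ↥A N (tA hA ⟨d, hdΓ⟩))) ∧
      Module.finrank k (M →ₗ[↥A] N ⧸ LinearMap.range (LinearMap.lsmul ↥A N (tA hA ⟨d, hdΓ⟩))) =
        Module.finrank k ↥(SolN k Γ μ.Δ ν.Δ d) := by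
  classical
  let x : ↥A := tA hA ⟨d, hdΓ⟩
  have := (μ.finite_DS d).to_subtype
  have := (ν.finite_DS d).to_subtype
  obtain ⟨E, hE⟩ := Groth.Agent.TFExt45.Coord.hom_equiv (k := k) x (μ.pr d) (μ.pr_surjective d) (μ.pr_eq_zero hA hdΓ)
    (ν.pr d) (ν.pr_surjective d) (ν.pr_eq_zero hA hdΓ) (fun γ : ↥Γ => tA hA γ) (fun γ => μ.T d γ)
    (fun γ => ν.T d γ) (fun γ m => μ.pr_smul hA γ m) (fun γ n => ν.pr_smul hA γ n) (fun a => by
      set B := μ.C + ν.C + d
      let b : ↥A := ∑ n ∈ Finset.range B,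
        if hn : n ∈ Γ then (coeff n (a : k⟦X⟧)) • tA hA ⟨n, hn⟩ else 0
      have hba : ∀ n < B, coeff n ((a - b : ↥A) : k⟦X⟧) = 0 := by
        intro n hn
        rw [AddSubgroupClass.coe_sub, map_sub]
        show coeff n (a : k⟦X⟧) - coeff n ((∑ j ∈ Finset.range B, _ : ↥A) : k⟦X⟧) = 0
        rw [AddSubmonoidClass.coe_finset_sum, map_sum, Finset.sum_eq_single n, sub_eq_zero]
        · by_cases hΓ : n ∈ Γ
          · rw [dif_pos hΓ]
            simp [tA, coeff_monomial]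
          · rw [dif_neg hΓ]
            simp [mem_monSet.1 ((hA.mem _).1 a.2) n hΓ]
        · intro j _ hj
          by_cases hΓ : j ∈ Γ
          · rw [dif_pos hΓ]
            simp [tA, coeff_monomial, Ne.symm hj]
          · rw [dif_neg hΓ]
            simp
        · intro h'
          exact absurd (Finset.mem_range.2 hn) h'
      refine ⟨b, sum_mem fun n _ => ?_, fun m => μ.pr_high hA _ (fun n hn => hba n (by omega)) m,
        fun m => ν.pr_high hA _ (fun n hn => hba n (by omega)) m⟩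
      split
      · exact Subalgebra.smul_mem _ (Algebra.subset_adjoin (Set.mem_range_self _)) _
      · exact zero_mem _)
  have : FiniteDimensional k (M →ₗ[↥A] N ⧸ LinearMap.range (LinearMap.lsmul ↥A N x)) :=
    Module.Finite.equiv E.symm
  let toU : ↥(Groth.Agent.TFExt45.Coord.Sol (fun γ : ↥Γ => μ.T d γ) fun γ : ↥Γ => ν.T d γ) →ₗ[k] (ℕ → ℕ → k) :=
    { toFun := fun Φ p r => if hp : p ∈ DS μ.Δ d then if hr : r ∈ DS ν.Δ d then
          Φ.1 (Pi.single ⟨p, hp⟩ 1) ⟨r, hr⟩ else 0 else 0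
      map_add' := fun Φ Ψ => funext fun p => funext fun r => by
        simp only [Pi.add_apply]
        split
        · split <;> simp
        · simp
      map_smul' := fun c Φ => funext fun p => funext fun r => by
        simp only [Pi.smul_apply, RingHom.id_apply]
        split
        · split <;> simp
        · simp }
  have toU_apply : ∀ Φ (p : ↥(DS μ.Δ d)) (r : ↥(DS ν.Δ d)),
      toU Φ p r = Φ.1 (Pi.single p 1) r := fun Φ p r => by
    simp [toU, p.2, r.2]
  have Tsingle : ∀ (γ : ℕ) (p : ↥(DS μ.Δ d)), μ.T (k := k) d γ (Pi.single p 1) =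
      if h : (p : ℕ) + γ ∈ DS μ.Δ d then (Pi.single ⟨_, h⟩ (1 : k) : ↥(DS μ.Δ d) → k) else 0 := by
    intro γ p
    funext q
    show dite _ _ _ = _
    have hq : ((q : ℕ) = (p : ℕ) + γ) ↔ (γ ≤ (q : ℕ) ∧ (q : ℕ) - γ = (p : ℕ)) := by omega
    by_cases hqp : (q : ℕ) = (p : ℕ) + γ
    · have hmem : (p : ℕ) + γ ∈ DS μ.Δ d := hqp ▸ q.2
      rw [dif_pos hmem, dif_pos ⟨(hq.1 hqp).1, by rw [(hq.1 hqp).2]; exact p.2⟩]
      rw [show (⟨(q : ℕ) - γ, _⟩ : ↥(DS μ.Δ d)) = p from Subtype.ext (hq.1 hqp).2,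
        show (⟨(p : ℕ) + γ, hmem⟩ : ↥(DS μ.Δ d)) = q from Subtype.ext hqp.symm,
        Pi.single_eq_same, Pi.single_eq_same]
    · have h0 : (dite ((p : ℕ) + γ ∈ DS μ.Δ d) (fun h => (Pi.single (⟨_, h⟩ : ↥(DS μ.Δ d)) (1 : k) : ↥(DS μ.Δ d) → k)) fun _ => 0) q = 0 := by
        split
        · rw [Pi.single_eq_of_ne]
          exact fun h => hqp (congrArg Subtype.val h)
        · rfl
      rw [h0]
      split
      next h =>
        rw [Pi.single_eq_of_ne]
        exact fun e => hqp (hq.2 ⟨h.1, congrArg Subtype.val e⟩)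
      next => rfl
  have toU_mem : ∀ Φ, toU Φ ∈ SolN k Γ μ.Δ ν.Δ d := by
    intro Φ
    refine ⟨fun p r h => ?_, fun γ hγ p hp r hr => ?_⟩
    · show dite _ _ _ = (0 : k)
      split
      · rw [dif_neg fun hr => h ⟨by assumption, hr⟩]
      · rfl
    · have h1 := congrFun (LinearMap.congr_fun (Φ.2 ⟨γ, hγ⟩) (Pi.single ⟨p, hp⟩ 1)) ⟨r, hr⟩
      simp only [LinearMap.comp_apply] at h1
      rw [Tsingle γ ⟨p, hp⟩] at h1
      refine Eq.trans ?_ (h1.trans ?_)
      · by_cases hpg : p + γ ∈ DS μ.Δ d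
        · rw [dif_pos hpg]
          exact toU_apply Φ ⟨_, hpg⟩ ⟨r, hr⟩
        · rw [dif_neg hpg, map_zero]
          exact dif_neg hpg
      · show dite _ _ _ = _
        by_cases hle : γ ≤ r
        · rw [if_pos hle]
          by_cases hm : r - γ ∈ DS ν.Δ d
          · rw [dif_pos ⟨hle, hm⟩]
            exact (toU_apply Φ ⟨p, hp⟩ ⟨_, hm⟩).symm
          · rw [dif_neg fun h => hm h.2]
            show (0 : k) = dite _ _ _
            rw [dif_pos hp, dif_neg hm]
        · rw [if_neg hle, dif_neg fun h => hle h.1]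
  let E2 := LinearMap.codRestrict (SolN k Γ μ.Δ ν.Δ d) toU toU_mem
  have hbij : Function.Bijective E2 := by
    refine ⟨fun Φ Ψ hΦ => Subtype.ext (LinearMap.pi_ext' fun p =>
      LinearMap.ext_ring (funext fun r => ?_)), fun U => ?_⟩
    · show Φ.1 (Pi.single p 1) r = Ψ.1 (Pi.single p 1) r
      rw [← toU_apply, ← toU_apply]
      exact congrFun (congrFun (congrArg Subtype.val hΦ) p) r
    · obtain ⟨U, hU0, hUeq⟩ := U
      letI := Fintype.ofFinite ↥(DS μ.Δ d)
      let Φ : (↥(DS μ.Δ d) → k) →ₗ[k] (↥(DS ν.Δ d) → k) :=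
        { toFun := fun v r => ∑ p : ↥(DS μ.Δ d), v p * U p r
          map_add' := fun v w => funext fun r => by simp [add_mul, Finset.sum_add_distrib]
          map_smul' := fun c v => funext fun r => by simp [Finset.mul_sum, mul_assoc] }
      have hΦs : ∀ p r, Φ (Pi.single p 1) r = U p r := fun p r => by
        show ∑ q : ↥(DS μ.Δ d), (Pi.single p (1 : k) : ↥(DS μ.Δ d) → k) q * U q r = _
        simp [Pi.single_apply]
      refine ⟨⟨Φ, fun γ => LinearMap.pi_ext' fun p => LinearMap.ext_ring (funext fun r => ?_)⟩, Subtype.ext ?_⟩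
      · show Φ (μ.T d γ (Pi.single p 1)) r = ν.T d γ (Φ (Pi.single p 1)) r
        rw [Tsingle]
        have h2 := hUeq γ γ.2 p p.2 r r.2
        refine Eq.trans ?_ (h2.trans ?_)
        · by_cases hpg : (p : ℕ) + (γ : ℕ) ∈ DS μ.Δ d
          · rw [dif_pos hpg, hΦs]
          · rw [dif_neg hpg, map_zero, hU0 _ _ fun h => hpg h.1]
            rfl
        · show _ = dite _ _ _
          by_cases hle : (γ : ℕ) ≤ (r : ℕ)
          · rw [if_pos hle]
            by_cases hm : (r : ℕ) - γ ∈ DS ν.Δ d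
            · rw [dif_pos ⟨hle, hm⟩, hΦs]
            · rw [dif_neg fun h => hm h.2, hU0 _ _ fun h => hm h.2]
          · rw [if_neg hle, dif_neg fun h => hle h.1]
      · show toU ⟨Φ, _⟩ = U
        funext p r
        show dite _ _ _ = _
        by_cases hp : p ∈ DS μ.Δ d
        · rw [dif_pos hp]
          by_cases hr : r ∈ DS ν.Δ d
          · rw [dif_pos hr]
            exact hΦs ⟨p, hp⟩ ⟨r, hr⟩
          · rw [dif_neg hr, hU0 _ _ fun h => hr h.2]
        · rw [dif_neg hp, hU0 _ _ fun h => hp h.1]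
  exact ⟨‹_›, (E.trans (LinearEquiv.ofBijective E2 hbij)).finrank_eq⟩

/-- The image of reduction has dimension `d`. -/
theorem red_finrank (hA : MonAlg A Γ) (μ : MonMod A Γ M) (ν : MonMod A Γ N) (d α : ℕ) (hdΓ : d ∈ Γ)
    (hαΔ : ∀ δ ∈ μ.Δ, α + δ ∈ Γ) :
    Module.finrank k ↥((LinearMap.range
      (Groth.Agent.TFExt45.Base.red M N (tA hA ⟨d, hdΓ⟩))).restrictScalars k) = d := by
  classical
  let x : ↥A := tA hA ⟨d, hdΓ⟩
  have hαΓ : α ∈ Γ := by simpa using hαΔ 0 μ.zero
  have hgmem : ∀ m, monomial α (1 : k) * μ.ι m ∈ A := by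
    intro m
    refine (hA.mem _).2 (mem_monSet.2 fun n hn => ?_)
    rw [← X_pow_eq, coeff_X_pow_mul']
    split
    next hle =>
      refine mem_monSet.1 (μ.ι_mem m) _ fun h => hn ?_
      have := hαΔ _ h
      rwa [Nat.add_sub_cancel' hle] at this
    next => rfl
  let g : M →ₗ[↥A] ↥A :=
    { toFun := fun m => ⟨_, hgmem m⟩
      map_add' := fun m m' => Subtype.ext (by simp [mul_add])
      map_smul' := fun a m => Subtype.ext (by
        show monomial α (1 : k) * μ.ι (a • m) = (a : k⟦X⟧) * (monomial α (1 : k) * μ.ι m)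
        rw [map_smul]
        show monomial α (1 : k) * ((a : k⟦X⟧) * μ.ι m) = _
        ring) }
  -- the image of reduction has dimension `d`
  let P : Submodule k k⟦X⟧ :=
    { carrier := {f | ∀ m, f * μ.ι m ∈ monSet k ν.Δ}
      zero_mem' := fun m => by rw [zero_mul]; exact zero_mem _
      add_mem' := fun {a b} ha hb m => by rw [add_mul]; exact add_mem (ha m) (hb m)
      smul_mem' := fun c a ha m => by rw [smul_mul_assoc]; exact Submodule.smul_mem _ _ (ha m) }
  let xm : k⟦X⟧ →ₗ[k] k⟦X⟧ := LinearMap.mulLeft k (monomial d (1 : k))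
  have hxm : ∀ f, xm f = X ^ d * f := fun f => by
    show monomial d (1 : k) * f = _
    rw [X_pow_eq]
  let U : Submodule k k⟦X⟧ := monSet k {n | ν.C ≤ n}
  have hUP : U ≤ P := by
    intro f hf m
    refine mem_monSet.2 fun n hn => ?_
    have hnC : n < ν.C := by
      by_contra h
      exact hn (ν.full n (by omega))
    rw [coeff_mul]
    refine Finset.sum_eq_zero fun p hp => ?_
    rw [Finset.HasAntidiagonal.mem_antidiagonal] at hp
    rw [mem_monSet.1 hf p.1 (by show ¬ ν.C ≤ p.1; omega), zero_mul]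
  have hxP : P.map xm ≤ P := by
    rintro _ ⟨f, hf, rfl⟩ m
    refine mem_monSet.2 fun n hn => ?_
    rw [hxm, mul_assoc, coeff_X_pow_mul']
    split
    next hle =>
      refine mem_monSet.1 (hf m) _ fun h => hn ?_
      have := ν.add d hdΓ _ h
      rwa [Nat.add_sub_cancel' hle] at this
    next => rfl
  have trunc : ∀ (n : ℕ) (V : Submodule k k⟦X⟧), (∀ f, f ∈ V ↔ ∀ j < n, coeff j f = 0) →
      FiniteDimensional k (k⟦X⟧ ⧸ V) ∧ Module.finrank k (k⟦X⟧ ⧸ V) = n := by
    intro n V hV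
    let τ : k⟦X⟧ →ₗ[k] Fin n → k := LinearMap.pi fun j => coeff (j : ℕ)
    have hτs : Function.Surjective τ := fun v => ⟨mk fun j => if h : j < n then v ⟨j, h⟩ else 0,
      funext fun j => by simp [τ]⟩
    have hτk : LinearMap.ker τ = V := by
      ext f
      rw [LinearMap.mem_ker, hV]
      exact ⟨fun h j hj => congrFun h ⟨j, hj⟩, fun h => funext fun j => h j j.2⟩
    let e := (Submodule.quotEquivOfEq _ _ hτk.symm).trans (τ.quotKerEquivOfSurjective hτs)
    exact ⟨Module.Finite.equiv e.symm, by rw [e.finrank_eq, Module.finrank_pi, Fintype.card_fin]⟩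
  obtain ⟨hfU, -⟩ := trunc ν.C U fun f => by
    rw [mem_monSet]
    exact ⟨fun h j hj => h j (by show ¬ ν.C ≤ j; omega), fun h j hj => h j (lt_of_not_ge hj)⟩
  obtain ⟨hfX, hdX⟩ := trunc d (LinearMap.range xm) fun f => by
    constructor
    · rintro ⟨f', rfl⟩ j hj
      rw [hxm, coeff_X_pow_mul', if_neg (by omega)]
    · intro hf
      refine ⟨mk fun n => coeff (n + d) f, ?_⟩
      rw [hxm]
      ext n
      rw [coeff_X_pow_mul']
      split
      next hle => rw [coeff_mk, Nat.sub_add_cancel hle]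
      next hle => exact (hf n (not_le.1 hle)).symm
  have hinjx : Function.Injective xm := fun a b e => by
    rw [hxm, hxm] at e
    exact mul_left_cancel₀ (pow_ne_zero _ X_ne_zero) e
  refine Eq.trans ?_ hdX
  rw [← Groth.Agent.TFExt45.Base.finrank_quot_map xm hinjx U P hUP hxP]
  have hF : ∀ f : ↥P, ∀ m, ∃ n : N, ν.ι n = (f : k⟦X⟧) * μ.ι m := fun f m => (ν.range _).2 (f.2 m)
  choose F hF using hF
  let F' : ↥P → (M →ₗ[↥A] N) := fun f =>
    { toFun := F f
      map_add' := fun m m' => ν.inj (by rw [map_add, hF, hF, hF, map_add, mul_add])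
      map_smul' := fun a m => ν.inj (by
        rw [RingHom.id_apply, map_smul, hF, hF, map_smul]
        show (f : k⟦X⟧) * ((a : k⟦X⟧) * μ.ι m) = (a : k⟦X⟧) * ((f : k⟦X⟧) * μ.ι m)
        ring) }
  let R := (LinearMap.range (Groth.Agent.TFExt45.Base.red M N x)).restrictScalars k
  let F'' : ↥P →ₗ[k] (M →ₗ[↥A] N) :=
    { toFun := F'
      map_add' := fun f f' => LinearMap.ext fun m => ν.inj (by
        show ν.ι (F (f + f') m) = ν.ι (F f m + F f' m)
        rw [map_add, hF, hF, hF, Submodule.coe_add, add_mul])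
      map_smul' := fun c f => LinearMap.ext fun m => ν.inj (by
        show ν.ι (F (c • f) m) = ν.ιk (c • F f m)
        rw [map_smul, hF, Submodule.coe_smul, smul_mul_assoc]
        exact congrArg (c • ·) (hF f m).symm) }
  let θ : ↥P →ₗ[k] ↥R := LinearMap.codRestrict R
    ((Groth.Agent.TFExt45.Base.red M N x).restrictScalars k ∘ₗ F'') fun f => LinearMap.mem_range_self _ _
  have hθs : Function.Surjective θ := by
    rintro ⟨_, φ, rfl⟩
    obtain ⟨m1, hm1⟩ := (μ.range 1).2 (mem_monSet.2 fun n hn => by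
      rw [coeff_one, if_neg]; rintro rfl; exact hn μ.zero)
    have key : ∀ m, ν.ι (φ m) = ν.ι (φ m1) * μ.ι m := by
      intro m
      have hm : tA hA ⟨α, hαΓ⟩ • m = g m • m1 := μ.inj (by
        rw [map_smul, map_smul, hm1]
        show monomial α (1 : k) * μ.ι m = monomial α (1 : k) * μ.ι m * 1
        ring)
      have h1 := congrArg (fun z => ν.ι (φ z)) hm
      simp only [map_smul] at h1
      refine mul_left_cancel₀ (show monomial α (1 : k) ≠ 0 by rw [← X_pow_eq]; exact pow_ne_zero _ X_ne_zero) ?_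
      calc monomial α (1 : k) * ν.ι (φ m) = monomial α (1 : k) * μ.ι m * ν.ι (φ m1) := h1
        _ = _ := by ring
    refine ⟨⟨ν.ι (φ m1), fun m => by have := ν.ι_mem (φ m); rwa [key m] at this⟩, Subtype.ext (LinearMap.ext fun m => ?_)⟩
    show Submodule.Quotient.mk (F _ m) = Submodule.Quotient.mk (φ m)
    refine congrArg _ (ν.inj ?_)
    rw [hF]
    exact (key m).symm
  have hθk : LinearMap.ker θ = (P.map xm).comap P.subtype := by
    ext f
    rw [LinearMap.mem_ker]
    constructor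
    · intro h0
      have hm : ∀ m, ∃ n : N, ν.ι (F f m) = monomial d (1 : k) * ν.ι n := fun m => by
        obtain ⟨n, hn⟩ := (Submodule.Quotient.mk_eq_zero _).1
          (LinearMap.congr_fun (congrArg Subtype.val h0) m)
        refine ⟨n, ?_⟩
        show _ = x • ν.ι n
        rw [← map_smul]
        exact congrArg ν.ι hn.symm
      obtain ⟨m1, hm1⟩ := (μ.range 1).2 (mem_monSet.2 fun n hn => by
        rw [coeff_one, if_neg]; rintro rfl; exact hn μ.zero)
      obtain ⟨n1, hn1⟩ := hm m1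
      rw [hF, hm1, mul_one] at hn1
      refine ⟨ν.ι n1, fun m => ?_, hn1.symm⟩
      obtain ⟨n, hn⟩ := hm m
      rw [hF, hn1, mul_assoc] at hn
      rw [mul_left_cancel₀ (show monomial d (1 : k) ≠ 0 by rw [← X_pow_eq]; exact pow_ne_zero _ X_ne_zero) hn]
      exact ν.ι_mem _
    · rintro ⟨f', hf', he⟩
      refine Subtype.ext (LinearMap.ext fun m => ?_)
      show Submodule.Quotient.mk (F f m) = 0
      refine (Submodule.Quotient.mk_eq_zero _).2 ⟨F ⟨f', hf'⟩ m, ν.inj ?_⟩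
      show ν.ι (x • F ⟨f', hf'⟩ m) = _
      rw [map_smul]
      show monomial d (1 : k) * ν.ι _ = _
      rw [hF, hF, show (f : k⟦X⟧) = xm f' from he.symm]
      show monomial d (1 : k) * (f' * μ.ι m) = monomial d (1 : k) * f' * μ.ι m
      ring
  rw [← hθk]

  have hfin := @Groth.Agent.TFExt45.Base.finrank_of_surjective k _ (↥P) (↥R) _ _ _ _ θ hθs
  exact hfin

/-- The length of `Ext¹` between monomial modules. -/
theorem length_mono (hA : MonAlg A Γ) (μ : MonMod A Γ M) (ν : MonMod A Γ N) (d α β : ℕ) (hd : d = α + β)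
    (hdΓ : d ∈ Γ) (hαΔ : ∀ δ ∈ μ.Δ, α + δ ∈ Γ) (hβ : β ∈ μ.Δ) (s : ℕ)
    (hs : Module.finrank k ↥(SolN k Γ μ.Δ ν.Δ d) = s) :
    Module.length ↥A (CategoryTheory.Abelian.Ext.{u} (ModuleCat.of ↥A M) (ModuleCat.of ↥A N) 1) =
      ((s - d : ℕ) : ℕ∞) := by
  classical
  have hαΓ : α ∈ Γ := by simpa using hαΔ 0 μ.zero
  let x : ↥A := tA hA ⟨d, hdΓ⟩
  have hxN : ∀ y : N, x • y = 0 → y = 0 := by
    intro y hy
    refine ν.inj ?_
    have h := congrArg ν.ι hy
    rw [map_smul, map_zero] at h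
    rw [map_zero]
    exact (mul_eq_zero.1 (show monomial d (1 : k) * ν.ι y = 0 from h)).resolve_left (by
      rw [← X_pow_eq]; exact pow_ne_zero _ X_ne_zero)
  have hgmem : ∀ m, monomial α (1 : k) * μ.ι m ∈ A := by
    intro m
    refine (hA.mem _).2 (mem_monSet.2 fun n hn => ?_)
    rw [← X_pow_eq, coeff_X_pow_mul']
    split
    next hle =>
      refine mem_monSet.1 (μ.ι_mem m) _ fun h => hn ?_
      have := hαΔ _ h
      rwa [Nat.add_sub_cancel' hle] at this
    next => rfl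
  let g : M →ₗ[↥A] ↥A :=
    { toFun := fun m => ⟨_, hgmem m⟩
      map_add' := fun m m' => Subtype.ext (by simp [mul_add])
      map_smul' := fun a m => Subtype.ext (by
        show monomial α (1 : k) * μ.ι (a • m) = (a : k⟦X⟧) * (monomial α (1 : k) * μ.ι m)
        rw [map_smul]
        show monomial α (1 : k) * ((a : k⟦X⟧) * μ.ι m) = _
        ring) }
  obtain ⟨mβ, hmβ⟩ := (μ.range (monomial β (1 : k))).2 (monomial_mem hβ 1)
  let h : ↥A →ₗ[↥A] M := LinearMap.toSpanSingleton ↥A M mβ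
  have hgh : h ∘ₗ g = x • LinearMap.id := by
    refine LinearMap.ext fun m => μ.inj ?_
    show μ.ι (g m • mβ) = μ.ι (x • m)
    rw [map_smul, map_smul, hmβ]
    show monomial α (1 : k) * μ.ι m * monomial β (1 : k) = monomial d (1 : k) * μ.ι m
    rw [hd, ← X_pow_eq, ← X_pow_eq, ← X_pow_eq, pow_add]
    ring
  obtain ⟨hfd, hfe⟩ := hom_finrank hA μ ν d hdΓ
  refine Groth.Agent.TFExt45.Base.length_ext M N (hloc hA) x hxN g h hgh s d (hfe.trans hs) ?_
  exact red_finrank hA μ ν d α hdΓ hαΔ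

end Groth.Agent.TFExt45.Mono
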